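import Mathlib
import Groth.Agent.SecNhdLib.Local
import Groth.Agent.DvrFlatLib.Uniformizer
import Groth.Agent.DvrProperLib.Components
import Groth.Agent.ProConsLib.Sch
import Groth.Agent.UOpenLib.Criterion

/-!
# Connected components of the fibres over a discrete valuation ring
-/

set_option autoImplicit false
universe u

open CategoryTheory CategoryTheory.Limits AlgebraicGeometry TopologicalSpace Topology IsLocalRing

namespace ProperConnLib

/-- A point of flatness with reduced closed fibre. -/
def GoodAt {A : Type u} [CommRing A] [IsDomain A] [IsDiscreteValuationRing A] {P : Scheme.{u}}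
    (b : P ⟶ Spec (CommRingCat.of A)) (w : P) : Prop :=
  (b.stalkMap w).hom.Flat ∧ _root_.IsReduced (P.presheaf.stalk w ⧸
    (maximalIdeal ((Spec (CommRingCat.of A)).presheaf.stalk (b w))).map (b.stalkMap w).hom)

/-- The generic point. -/
abbrev genPt (A : Type u) [CommRing A] [IsDomain A] : Spec (CommRingCat.of A) :=
  (⟨⊥, Ideal.isPrime_bot⟩ : PrimeSpectrum A)

variable {A : Type u} [CommRing A] [IsDomain A] [IsDiscreteValuationRing A] {P : Scheme.{u}}
  (b : P ⟶ Spec (CommRingCat.of A))

theorem preimage_genPt : b ⁻¹' {genPt A} = {z : P | b z ≠ closedPoint A} := by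
  ext z
  refine ⟨fun h e => IsDiscreteValuationRing.not_a_field A
    (congrArg PrimeSpectrum.asIdeal ((Set.mem_singleton_iff.mp h).symm.trans e)).symm, fun h => ?_⟩
  exact (UOpenLib.eq_closedPoint_or_eq_bot (A := A) (b z : PrimeSpectrum A)).resolve_left h

theorem isOpen_preimage_genPt : IsOpen (b ⁻¹' {genPt A}) := by
  rw [preimage_genPt]
  have : IsClosed ({closedPoint A} : Set (PrimeSpectrum A)) :=
    (PrimeSpectrum.isClosed_singleton_iff_isMaximal _).mpr (maximalIdeal.isMaximal A)
  exact (this.preimage b.continuous).isOpen_compl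

theorem locallyConnectedSpace (P : Scheme.{u}) [IsLocallyNoetherian P] : LocallyConnectedSpace P :=
  Groth.Agent.S2277.result P fun a => by
    obtain ⟨W, hW, haW⟩ : ∃ W : P.Opens, IsAffineOpen W ∧ a ∈ W := by
      obtain ⟨_, ⟨W, hW, rfl⟩, haW, -⟩ := P.isBasis_affineOpens.exists_subset_of_mem_open (Set.mem_univ a) isOpen_univ
      exact ⟨W, hW, haW⟩
    haveI : IsNoetherianRing Γ(P, W) := IsLocallyNoetherian.component_noetherian ⟨W, hW⟩
    exact ⟨W, W.isOpen.mem_nhds haW, noetherianSpace_of_isAffineOpen W hW⟩

theorem exists_specializes_of_mem_closure_open [IsLocallyNoetherian P] {K : Set P} (hK : IsOpen K) {w : P}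
    (hw : w ∈ closure K) : ∃ z ∈ K, z ⤳ w := by
  refine Groth.Agent.ProConsLib.exists_specializes_of_mem_closure_sch ?_ hw
  have h := (Groth.Agent.ProConsLib.isLocallyConstructible_iff_ind_and_pro.mp
    (DvrProperLib.isLocallyConstructible_of_isClosed hK.isClosed_compl)).1
  have h' := Groth.Agent.ProConsLib.isProConstructible_compl_iff.mpr h
  rwa [compl_compl] at h' 

theorem isConnected_of_goodAt [LocallyOfFiniteType b] {w : P} (hb : b w = closedPoint A) (h : GoodAt b w) :
    _root_.IsConnected {z : P | z ⤳ w ∧ z ∈ b ⁻¹' {genPt A}} := by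
  rw [preimage_genPt]
  exact SecNhdLib.isConnected_generizations b w hb h.2 h.1

/-- Components of the generic fibre have disjoint closures and inject into the components of the space. -/
theorem mem_connectedComponentIn_genPt [LocallyOfFiniteType b]
    (hgood : ∀ w, b w = closedPoint A → GoodAt b w) {z z' : P} (hz : b z = genPt A) (hz' : b z' = genPt A)
    (hc : z' ∈ connectedComponent z) : z' ∈ connectedComponentIn (b ⁻¹' {genPt A}) z := by
  haveI : IsLocallyNoetherian P := LocallyOfFiniteType.isLocallyNoetherian b
  haveI := locallyConnectedSpace P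
  let E : Set P := b ⁻¹' {genPt A}
  have hE : IsOpen E := isOpen_preimage_genPt b
  let K := connectedComponentIn E z
  have hK : IsOpen K := hE.connectedComponentIn
  have hK' : IsOpen (E \ K) := by
    rw [isOpen_iff_forall_mem_open]
    rintro q ⟨hqE, hqK⟩
    refine ⟨connectedComponentIn E q, fun r hr => ⟨connectedComponentIn_subset _ _ hr, fun hrK => hqK ?_⟩,
      hE.connectedComponentIn, mem_connectedComponentIn hqE⟩
    rw [show K = connectedComponentIn E r from connectedComponentIn_eq hrK, ← connectedComponentIn_eq hr]
    exact mem_connectedComponentIn hqE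
  have hdisj : closure K ∩ closure (E \ K) = ∅ := by
    refine Set.eq_empty_iff_forall_notMem.mpr fun w ⟨h1, h2⟩ => ?_
    obtain ⟨a, ha, haw⟩ := exists_specializes_of_mem_closure_open hK h1
    obtain ⟨c, hc, hcw⟩ := exists_specializes_of_mem_closure_open hK' h2
    by_cases hw : w ∈ E
    · by_cases hwK : w ∈ K
      · exact Set.disjoint_left.mp disjoint_sdiff_self_right (hcw.mem_open hK hwK) hc
      · exact Set.disjoint_left.mp disjoint_sdiff_self_right ha (haw.mem_open hK' ⟨hw, hwK⟩)
    · have hws : b w = closedPoint A :=
        (UOpenLib.eq_closedPoint_or_eq_bot (A := A) (b w : PrimeSpectrum A)).resolve_right hw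
      have hG := (isConnected_of_goodAt b hws (hgood w hws)).isPreconnected
      refine hc.2 ?_
      rw [show K = connectedComponentIn E a from connectedComponentIn_eq ha]
      exact hG.subset_connectedComponentIn ⟨haw, connectedComponentIn_subset _ _ ha⟩ (fun r hr => hr.2) ⟨hcw, hc.1⟩
  have hcov : closure K ∪ closure (E \ K) = Set.univ := by
    refine Set.eq_univ_of_forall fun w => ?_
    by_cases hw : w ∈ E
    · by_cases hwK : w ∈ K
      · exact Or.inl (subset_closure hwK)
      · exact Or.inr (subset_closure ⟨hw, hwK⟩)
    · have hws : b w = closedPoint A :=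
        (UOpenLib.eq_closedPoint_or_eq_bot (A := A) (b w : PrimeSpectrum A)).resolve_right hw
      obtain ⟨r, hrw, hrE⟩ := (isConnected_of_goodAt b hws (hgood w hws)).nonempty
      by_cases hrK : r ∈ K
      · exact Or.inl (closure_mono (Set.singleton_subset_iff.mpr hrK) hrw.mem_closure)
      · exact Or.inr (closure_mono (Set.singleton_subset_iff.mpr (show r ∈ E \ K from ⟨hrE, hrK⟩)) hrw.mem_closure)
  have hclopen : IsClopen (closure K) := by
    refine ⟨isClosed_closure, ?_⟩
    have : closure K = (closure (E \ K))ᶜ := by
      ext w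
      exact ⟨fun h h' => (hdisj.le ⟨h, h'⟩ : w ∈ (∅ : Set P)), fun h => (hcov.ge (Set.mem_univ w)).resolve_right h⟩
    rw [this]
    exact isClosed_closure.isOpen_compl
  have hzK : z ∈ K := mem_connectedComponentIn hz
  by_contra hn
  exact (hdisj.le ⟨hclopen.connectedComponent_subset (subset_closure hzK) hc, subset_closure ⟨hz', hn⟩⟩ : z' ∈ (∅ : Set P))

/-- A connected space has connected generic fibre. -/
theorem isPreconnected_genPt [LocallyOfFiniteType b] [PreconnectedSpace P]
    (hgood : ∀ w, b w = closedPoint A → GoodAt b w) : _root_.IsPreconnected (b ⁻¹' {genPt A}) := by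
  refine isPreconnected_of_forall_pair fun z hz z' hz' => ?_
  refine ⟨connectedComponentIn (b ⁻¹' {genPt A}) z, connectedComponentIn_subset _ _, mem_connectedComponentIn hz, ?_,
    isPreconnected_connectedComponentIn⟩
  exact mem_connectedComponentIn_genPt b hgood hz hz' (by rw [PreconnectedSpace.connectedComponent_eq_univ]; trivial)

/-- Openness at the closed fibre with reduced closed fibre gives good points. -/
theorem goodAt_of_openAt [LocallyOfFiniteType b] {w : P} (hb : b w = closedPoint A)
    (hopen : ∀ z : ↥(b.fiber (b w)), b.asFiber w ∈ closure {z} →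
      (∀ z' : ↥(b.fiber (b w)), z ∈ closure {z'} → z' = z) → EGA43.IsOpenAt b ((b.fiberι (b w)) z))
    (hred : _root_.IsReduced ((b.fiber (b w)).presheaf.stalk (b.asFiber w))) : GoodAt b w := by
  refine ⟨DvrFlatLib.flat_stalkMap_of_openAt b w hb hopen hred, ?_⟩
  haveI := hred
  exact DvrFlatLib.isReduced_stalk_quotient b w

/-- Every component meets the closed fibre and, under openness, the generic fibre. -/
theorem exists_mem_closed [UniversallyClosed b] (z : P) : ∃ w, z ⤳ w ∧ b w = closedPoint A := by
  obtain ⟨w, hw, hb⟩ := b.isClosedMap.specializingMap (IsLocalRing.specializes_closedPoint (b z : PrimeSpectrum A))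
  exact ⟨w, hw, hb⟩

theorem card_components_genPt_le [UniversallyClosed b] [LocallyOfFiniteType b]
    (hgood : ∀ w, b w = closedPoint A → GoodAt b w) :
    ENat.card (_root_.ConnectedComponents ↥(b ⁻¹' {genPt A})) ≤
      ENat.card (_root_.ConnectedComponents ↥(b ⁻¹' {closedPoint A})) := by
  let i : ↥(b ⁻¹' {genPt A}) → P := Subtype.val
  let j : ↥(b ⁻¹' {closedPoint A}) → P := Subtype.val
  refine le_trans (ENat.card_le_card_of_injective
    (f := (continuous_subtype_val : Continuous i).connectedComponentsMap) fun p q h => ?_)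
    (ENat.card_le_card_of_injective (Function.injective_surjInv (f := (continuous_subtype_val : Continuous j).connectedComponentsMap) fun c => ?_))
  · obtain ⟨a, rfl⟩ := ConnectedComponents.surjective_coe p
    obtain ⟨c, rfl⟩ := ConnectedComponents.surjective_coe q
    have h' : connectedComponent a.1 = connectedComponent c.1 := ConnectedComponents.coe_eq_coe.mp h
    have h2 := mem_connectedComponentIn_genPt b hgood a.2 c.2 (h' ▸ mem_connectedComponent)
    rw [connectedComponentIn_eq_image a.2] at h2
    obtain ⟨c', hc', hcc⟩ := h2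
    obtain rfl := Subtype.val_injective hcc
    exact ConnectedComponents.coe_eq_coe.mpr (connectedComponent_eq hc')
  · obtain ⟨z, rfl⟩ := ConnectedComponents.surjective_coe c
    obtain ⟨w, hzw, hw⟩ := exists_mem_closed b z
    exact ⟨ConnectedComponents.mk ⟨w, hw⟩, ConnectedComponents.coe_eq_coe'.mpr
      (isClosed_connectedComponent.closure_subset_iff.mpr (Set.singleton_subset_iff.mpr mem_connectedComponent) hzw.mem_closure)⟩

/-- Components through the closed fibre are seen by the generic fibre. -/
theorem card_components_le_genPt [UniversallyClosed b] [LocallyOfFiniteType b]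
    (hopen : ∀ w, b w = closedPoint A → EGA43.IsOpenAt b w)
    (hlift : ∀ V : Set ↥(b ⁻¹' {closedPoint A}), IsClopen V → ∃ U : Set P, IsClopen U ∧ Subtype.val ⁻¹' U = V) :
    ENat.card (_root_.ConnectedComponents ↥(b ⁻¹' {closedPoint A})) ≤
      ENat.card (_root_.ConnectedComponents ↥(b ⁻¹' {genPt A})) := by
  haveI : IsLocallyNoetherian P := LocallyOfFiniteType.isLocallyNoetherian b
  haveI := locallyConnectedSpace P
  let i : ↥(b ⁻¹' {genPt A}) → P := Subtype.val
  let j : ↥(b ⁻¹' {closedPoint A}) → P := Subtype.val
  haveI : LocallyConnectedSpace ↥(b ⁻¹' {closedPoint A}) := by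
    haveI : LocallyOfFiniteType (b.fiberToSpecResidueField (closedPoint A)) := MorphismProperty.pullback_snd _ _ inferInstance
    haveI : IsLocallyNoetherian (b.fiber (closedPoint A)) :=
      LocallyOfFiniteType.isLocallyNoetherian (b.fiberToSpecResidueField (closedPoint A))
    haveI := locallyConnectedSpace (b.fiber (closedPoint A))
    exact (b.fiberHomeo (closedPoint A)).symm.locallyConnectedSpace
  refine le_trans (ENat.card_le_card_of_injective
    (f := (continuous_subtype_val : Continuous j).connectedComponentsMap) fun p q h => ?_)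
    (ENat.card_le_card_of_injective (Function.injective_surjInv (f := (continuous_subtype_val : Continuous i).connectedComponentsMap) fun c => ?_))
  · obtain ⟨a, rfl⟩ := ConnectedComponents.surjective_coe p
    obtain ⟨c, rfl⟩ := ConnectedComponents.surjective_coe q
    have h' : connectedComponent a.1 = connectedComponent c.1 := ConnectedComponents.coe_eq_coe.mp h
    refine ConnectedComponents.coe_eq_coe.mpr (connectedComponent_eq ?_)
    obtain ⟨U, hU, hUV⟩ := hlift (connectedComponent a) ⟨isClosed_connectedComponent, isOpen_connectedComponent⟩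
    rw [← hUV]
    show c.1 ∈ U
    refine hU.connectedComponent_subset (x := a.1) ?_ (show c.1 ∈ connectedComponent a.1 by rw [h']; exact mem_connectedComponent)
    exact (Set.ext_iff.mp hUV a).mpr mem_connectedComponent
  · obtain ⟨z, rfl⟩ := ConnectedComponents.surjective_coe c
    obtain ⟨w, hzw, hw⟩ := exists_mem_closed b z
    have hwC : w ∈ connectedComponent z :=
      isClosed_connectedComponent.closure_subset_iff.mpr (Set.singleton_subset_iff.mpr mem_connectedComponent) hzw.mem_closure
    obtain ⟨η, hη, hbη⟩ := mem_of_mem_nhds (x := genPt A) (mem_interior_iff_mem_nhds.mp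
      (Specializes.mem_open (show genPt A ⤳ b w from (PrimeSpectrum.le_iff_specializes (genPt A) (b w)).mp bot_le)
        isOpen_interior (mem_interior_iff_mem_nhds.mpr (hopen w hw _ (isOpen_connectedComponent.mem_nhds hwC)))))
    exact ⟨ConnectedComponents.mk ⟨η, hbη⟩, ConnectedComponents.coe_eq_coe'.mpr hη⟩

end ProperConnLib
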