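import Mathlib
import Groth.Agent.ProperConnLib.Core
import Groth.Agent.ProperClopenLib.HenselGeneral

/-!
# Components of proper schemes over local normal domains with algebraically closed fraction field
-/

set_option autoImplicit false
universe u

open CategoryTheory CategoryTheory.Limits AlgebraicGeometry TopologicalSpace Topology IsLocalRing Polynomial

namespace ProperConnLib

section Algebra

variable (B : Type u) [CommRing B] [IsDomain B] [IsLocalRing B] (K : Type u) [Field K] [IsAlgClosed K]
  [Algebra B K] [IsFractionRing B K] [IsIntegrallyClosed B]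

include K in
theorem henselianLocalRing_of_isAlgClosed : HenselianLocalRing B where
  is_henselian f hf a₀ h₁ _ := by
    have hm : (f.map (algebraMap B K)).Monic := hf.map _
    have hs := (IsAlgClosed.splits (f.map (algebraMap B K))).eq_prod_roots_of_monic hm
    have hroot : ∀ r ∈ (f.map (algebraMap B K)).roots, ∃ b : B, algebraMap B K b = r ∧ f.IsRoot b := by
      intro r hr
      have h0 : eval₂ (algebraMap B K) r f = 0 := by
        rw [← Polynomial.eval_map]; exact (mem_roots hm.ne_zero).mp hr
      obtain ⟨b, hb⟩ := (IsIntegrallyClosed.isIntegral_iff (R := B)).mp (⟨f, hf, h0⟩ : IsIntegral B r)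
      refine ⟨b, hb, ?_⟩
      apply IsFractionRing.injective B K
      rw [map_zero, ← eval₂_at_apply, hb, h0]
    choose b hb hbr using hroot
    have he : f.eval a₀ = ((f.map (algebraMap B K)).roots.pmap (fun r hr => a₀ - b r hr) fun _ h => h).prod := by
      apply IsFractionRing.injective B K
      rw [map_multiset_prod, Multiset.map_pmap, ← eval₂_at_apply, ← Polynomial.eval_map]
      conv_lhs => rw [hs]
      rw [eval_multiset_prod, Multiset.map_map, Multiset.pmap_eq_map_attach,
        ← Multiset.attach_map_val' (f.map (algebraMap B K)).roots]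
      refine congrArg Multiset.prod (Multiset.map_congr rfl fun x _ => ?_)
      simp [hb x.1 x.2]
    rw [he, Ideal.IsPrime.multiset_prod_mem_iff_exists_mem inferInstance] at h₁
    obtain ⟨p, hp, hpm⟩ := h₁
    obtain ⟨r, hr, rfl⟩ := Multiset.mem_pmap.mp hp
    exact ⟨b r hr, hbr r hr, by simpa using neg_mem hpm⟩

include K in
theorem isAlgClosed_residueField : IsAlgClosed (ResidueField B) := by
  refine IsAlgClosed.of_exists_root _ fun p hp hirr => ?_
  obtain ⟨q, hq, hdeg, hqm⟩ := lifts_and_degree_eq_and_monic
    (show p ∈ lifts (residue B) from map_surjective (residue B) residue_surjective p) hp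
  have hd : (q.map (algebraMap B K)).degree ≠ 0 := by
    rw [hqm.degree_map, hdeg]
    exact (Polynomial.degree_pos_of_irreducible hirr).ne'
  obtain ⟨r, hr⟩ := IsAlgClosed.exists_root _ hd
  have h0 : eval₂ (algebraMap B K) r q = 0 := by rw [← Polynomial.eval_map]; exact hr
  obtain ⟨b, hb⟩ := (IsIntegrallyClosed.isIntegral_iff (R := B)).mp (⟨q, hqm, h0⟩ : IsIntegral B r)
  refine ⟨residue B b, ?_⟩
  have : q.eval b = 0 := by
    apply IsFractionRing.injective B K
    rw [map_zero, ← eval₂_at_apply, hb, h0]
  rw [← hq, Polynomial.eval_map, eval₂_at_apply, this, map_zero]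

end Algebra

variable {B : Type u} [CommRing B] [IsDomain B] [IsLocalRing B] {P : Scheme.{u}}
  (b : P ⟶ Spec (CommRingCat.of B))

/-- If the generic fibre is dense near the closed fibre and clopens of the closed fibre lift, the closed fibre
has no more connected components than any fibre. -/
theorem card_components_closed_le [UniversallyClosed b] [LocallyOfFiniteType b] [QuasiCompact b]
    (hgen : b ⁻¹' {closedPoint B} ⊆ closure (b ⁻¹' {genPt B}))
    (hlift : ∀ V : Set ↥(b ⁻¹' {closedPoint B}), IsClopen V → ∃ U : Set P, IsClopen U ∧ Subtype.val ⁻¹' U = V)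
    (q : Spec (CommRingCat.of B)) :
    ENat.card (_root_.ConnectedComponents ↥(b ⁻¹' {closedPoint B})) ≤
      ENat.card (_root_.ConnectedComponents ↥(b ⁻¹' {q})) := by
  haveI : LocallyConnectedSpace ↥(b ⁻¹' {closedPoint B}) := by
    haveI : LocallyOfFiniteType (b.fiberToSpecResidueField (closedPoint B)) := MorphismProperty.pullback_snd _ _ inferInstance
    haveI : IsLocallyNoetherian (b.fiber (closedPoint B)) :=
      LocallyOfFiniteType.isLocallyNoetherian (b.fiberToSpecResidueField (closedPoint B))
    haveI := locallyConnectedSpace (b.fiber (closedPoint B))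
    exact (b.fiberHomeo (closedPoint B)).symm.locallyConnectedSpace
  haveI : NoetherianSpace ↥(b ⁻¹' {genPt B}) := by
    haveI : LocallyOfFiniteType (b.fiberToSpecResidueField (genPt B)) := MorphismProperty.pullback_snd _ _ inferInstance
    haveI : QuasiCompact (b.fiberToSpecResidueField (genPt B)) := MorphismProperty.pullback_snd _ _ inferInstance
    haveI : IsLocallyNoetherian (b.fiber (genPt B)) :=
      LocallyOfFiniteType.isLocallyNoetherian (b.fiberToSpecResidueField (genPt B))
    haveI : CompactSpace ↥(b.fiber (genPt B)) :=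
      QuasiCompact.compactSpace_of_compactSpace (b.fiberToSpecResidueField (genPt B))
    haveI : IsNoetherian (b.fiber (genPt B)) := ⟨⟩
    exact noetherianSpace_of_surjective _ (b.fiberHomeo (genPt B)).continuous (b.fiberHomeo (genPt B)).surjective
  have hex : ∀ a : ↥(b ⁻¹' {closedPoint B}), ∃ r : ↥(b ⁻¹' {q}), connectedComponent r.1 = connectedComponent a.1 := by
    intro a
    have hfin : (irreducibleComponents ↥(b ⁻¹' {genPt B})).Finite := NoetherianSpace.finite_irreducibleComponents
    have ha : a.1 ∈ ⋃ Z ∈ irreducibleComponents ↥(b ⁻¹' {genPt B}), closure (Subtype.val '' Z : Set P) := by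
      rw [← hfin.closure_biUnion]
      refine closure_mono (fun z hz => ?_) (hgen a.2)
      exact Set.mem_biUnion (irreducibleComponent_mem_irreducibleComponents (⟨z, hz⟩ : ↥(b ⁻¹' {genPt B})))
        ⟨⟨z, hz⟩, mem_irreducibleComponent, rfl⟩
    obtain ⟨Z, hZ, haZ⟩ := Set.mem_iUnion₂.mp ha
    have hirr : IsIrreducible (closure (Subtype.val '' Z : Set P)) :=
      (hZ.1.image _ continuous_subtype_val.continuousOn).closure
    obtain ⟨z, hz⟩ := hZ.1.nonempty
    have himg : q ∈ b '' closure (Subtype.val '' Z : Set P) :=
      closure_minimal subset_rfl (b.isClosedMap _ isClosed_closure) ?_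
    · obtain ⟨r, hr, hrq⟩ := himg
      exact ⟨⟨r, hrq⟩, connectedComponent_eq (hirr.isConnected.isPreconnected.subset_connectedComponent hr haZ)⟩
    · refine closure_mono (s := {genPt B}) (fun w hw => ?_)
        (specializes_iff_mem_closure.mp ((PrimeSpectrum.le_iff_specializes (genPt B) q).mp bot_le))
      exact ⟨z.1, subset_closure ⟨z, hz, rfl⟩, z.2.trans hw.symm⟩
  choose r hr using hex
  let j : ↥(b ⁻¹' {closedPoint B}) → P := Subtype.val
  let i : ↥(b ⁻¹' {q}) → P := Subtype.val
  let F : _root_.ConnectedComponents ↥(b ⁻¹' {closedPoint B}) → _root_.ConnectedComponents ↥(b ⁻¹' {q}) :=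
    fun c => ConnectedComponents.mk (r (Function.surjInv ConnectedComponents.surjective_coe c))
  refine ENat.card_le_card_of_injective (f := F) fun c c' h => ?_
  rw [← Function.surjInv_eq ConnectedComponents.surjective_coe c, ← Function.surjInv_eq ConnectedComponents.surjective_coe c']
  set a := Function.surjInv ConnectedComponents.surjective_coe c
  set a' := Function.surjInv ConnectedComponents.surjective_coe c'
  have h1 : connectedComponent (r a).1 = connectedComponent (r a').1 :=
    ConnectedComponents.coe_eq_coe.mp (congrArg (continuous_subtype_val : Continuous i).connectedComponentsMap h)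
  rw [hr a, hr a'] at h1
  refine ConnectedComponents.coe_eq_coe.mpr (connectedComponent_eq ?_)
  obtain ⟨U, hU, hUV⟩ := hlift (connectedComponent a) ⟨isClosed_connectedComponent, isOpen_connectedComponent⟩
  rw [← hUV]
  refine hU.connectedComponent_subset (x := a.1) ?_ (show a'.1 ∈ connectedComponent a.1 by rw [h1]; exact mem_connectedComponent)
  exact (Set.ext_iff.mp hUV a).mpr mem_connectedComponent

theorem exists_clopen_lift_closedPoint [HenselianLocalRing B] [IsProper b] (V : Set ↥(b ⁻¹' {closedPoint B}))
    (hV : IsClopen V) : ∃ U : Set P, IsClopen U ∧ Subtype.val ⁻¹' U = V := by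
  have hz : b ⁻¹' PrimeSpectrum.zeroLocus ((maximalIdeal B : Ideal B) : Set B) = b ⁻¹' {closedPoint B} := by
    refine congrArg (fun S => b ⁻¹' S) (Set.ext fun q => ?_)
    rw [PrimeSpectrum.mem_zeroLocus, SetLike.coe_subset_coe]
    exact ⟨fun hq => PrimeSpectrum.ext ((maximalIdeal.isMaximal B).eq_of_le (Ideal.IsPrime.ne_top inferInstance) hq).symm,
      fun hq => (congrArg PrimeSpectrum.asIdeal (Set.mem_singleton_iff.mp hq)).ge⟩
  have hcl' : IsClosed (b ⁻¹' {closedPoint B}) := hz ▸ (PrimeSpectrum.isClosed_zeroLocus _).preimage b.continuous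
  obtain ⟨U, hU, hUV⟩ := ProperClopenLib.exists_clopen_lift_henselian b (maximalIdeal B) (Subtype.val '' V)
    (Subtype.val '' Vᶜ) (hcl'.isClosedEmbedding_subtypeVal.isClosedMap _ hV.isClosed)
    (hcl'.isClosedEmbedding_subtypeVal.isClosedMap _ hV.compl.isClosed)
    (Set.disjoint_image_of_injective Subtype.val_injective disjoint_compl_right)
    (by rw [hz, ← Set.image_union, Set.union_compl_self, Set.image_univ, Subtype.range_coe])
  refine ⟨U, hU, ?_⟩
  ext v
  rw [hz] at hUV
  exact ⟨fun hv => Subtype.val_injective.mem_set_image.mp (hUV.le ⟨hv, v.2⟩),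
    fun hv => (hUV.ge ⟨v, hv, rfl⟩).1⟩

end ProperConnLib
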