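import Mathlib
import Groth.Agent.GISpreadLib.Count

/-!
# Connected components of a geometric fibre are seen over a finite extension
-/

set_option autoImplicit false
universe u

open CategoryTheory CategoryTheory.Limits AlgebraicGeometry TopologicalSpace Topology GISpreadLib

namespace ProperConnLib

theorem card_components_le_of_saturated {α β : Type*} [TopologicalSpace α] [TopologicalSpace β] {π : α → β}
    (hπ : Continuous π) (hclosed : IsClosedMap π) (hsurj : Function.Surjective π) {ι : Type*} [Finite ι]
    (W : ι → Set α) (Z : ι → Set β) (hW : ∀ i, IsIrreducible (W i)) (hWc : ∀ i, IsClosed (W i))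
    (hcov : ∀ x, ∃ i, x ∈ W i) (hZ : ∀ i, π ⁻¹' Z i = W i) :
    ENat.card (_root_.ConnectedComponents α) ≤ ENat.card (_root_.ConnectedComponents β) := by
  refine ENat.card_le_card_of_injective (f := hπ.connectedComponentsMap) fun p q h => ?_
  obtain ⟨a, rfl⟩ := ConnectedComponents.surjective_coe p
  obtain ⟨c, rfl⟩ := ConnectedComponents.surjective_coe q
  have h' : connectedComponent (π a) = connectedComponent (π c) := ConnectedComponents.coe_eq_coe.mp h
  let K := connectedComponent a
  have hsat : ∀ x y, x ∈ K → π y = π x → y ∈ K := fun x y hx hxy => by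
    obtain ⟨i, hi⟩ := hcov x
    have hy : y ∈ W i := by
      rw [← hZ i, Set.mem_preimage, hxy, ← Set.mem_preimage, hZ i]
      exact hi
    refine ((hW i).isConnected.isPreconnected.subset_connectedComponent hi).trans (le_of_eq ?_) hy
    exact (connectedComponent_eq hx).symm
  have hfin : IsClosed Kᶜ := by
    have : Kᶜ = ⋃ i ∈ {i | Disjoint (W i) K}, W i := by
      ext x
      simp only [Set.mem_compl_iff, Set.mem_iUnion, Set.mem_setOf_eq, exists_prop]
      constructor
      · intro hx
        obtain ⟨i, hi⟩ := hcov x
        refine ⟨i, Set.disjoint_left.mpr fun y hy hyK => hx ?_, hi⟩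
        exact ((connectedComponent_eq hyK).symm ▸ (hW i).isConnected.isPreconnected.subset_connectedComponent hy) hi
      · rintro ⟨i, hd, hi⟩ hx
        exact Set.disjoint_left.mp hd hi hx
    rw [this]
    exact Set.Finite.isClosed_biUnion (Set.toFinite _) fun i _ => hWc i
  have hclopen : IsClopen (π '' K) := by
    refine ⟨hclosed _ isClosed_connectedComponent, ?_⟩
    have : π '' K = (π '' Kᶜ)ᶜ := by
      ext y
      obtain ⟨x, rfl⟩ := hsurj y
      constructor
      · rintro ⟨x₁, hx₁, hx₁x⟩ ⟨x₂, hx₂, hx₂x⟩
        exact hx₂ (hsat x₁ x₂ hx₁ (hx₂x.trans hx₁x.symm))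
      · intro hx
        by_contra hn
        exact hx ⟨x, fun hxK => hn ⟨x, hxK, rfl⟩, rfl⟩
    rw [this]
    exact (hclosed _ hfin).isOpen_compl
  have : π c ∈ π '' K := hclopen.connectedComponent_subset ⟨a, mem_connectedComponent, rfl⟩ (h' ▸ mem_connectedComponent)
  obtain ⟨x, hx, hxc⟩ := this
  exact ConnectedComponents.coe_eq_coe.mpr (connectedComponent_eq (hsat x c hx hxc.symm))

/-- The connected components over an algebraic closure are seen over a finite extension. -/
theorem exists_finite_level {k : Type u} [Field k] {X : Scheme.{u}} (f : X ⟶ Spec (CommRingCat.of k))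
    [LocallyOfFiniteType f] [QuasiCompact f] :
    ∃ R' : IntermediateField k (AlgebraicClosure k), FiniteDimensional k R' ∧
      ENat.card (_root_.ConnectedComponents ↥(BX f (AlgebraicClosure k))) ≤
        ENat.card (_root_.ConnectedComponents ↥(BX f R')) := by
  let L := AlgebraicClosure k
  obtain ⟨R', h, Z, hfin, hh, hZc, hZ, -, -⟩ := exists_spreading f L
  haveI := (finite_components f L).to_subtype
  haveI : FiniteDimensional k R' := hfin
  haveI : Algebra.IsIntegral k R' := Algebra.IsIntegral.of_finite k R'
  have hfield : IsField R' := isField_of_isIntegral_of_isField' (Field.toIsField k)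
  let F : IntermediateField k L := R'.toIntermediateField' hfield
  refine ⟨F, hfin, ?_⟩
  haveI : Surjective (Spec.map (CommRingCat.ofHom (algebraMap F L))) :=
    ⟨fun z => ⟨IsLocalRing.closedPoint L, Subsingleton.elim (α := PrimeSpectrum F) _ _⟩⟩
  haveI : IsIntegralHom (Spec.map (CommRingCat.ofHom (algebraMap F L))) :=
    (IsIntegralHom.SpecMap_iff (φ := CommRingCat.ofHom (algebraMap F L))).mpr
      (algebraMap_isIntegral_iff.mpr (Algebra.IsIntegral.tower_top (R := k)))
  have e : chgX f F L = (BXIso f F L).inv ≫ prX (sndX f F) L := by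
    rw [← BXIso_chgX, Iso.inv_hom_id_assoc]
  haveI : Surjective (prX (sndX f F) L) := MorphismProperty.pullback_fst _ _ inferInstance
  haveI : IsIntegralHom (prX (sndX f F) L) := MorphismProperty.pullback_fst _ _ inferInstance
  haveI : Surjective (chgX f F L) := by rw [e]; infer_instance
  haveI : UniversallyClosed (chgX f F L) := by rw [e]; infer_instance
  exact card_components_le_of_saturated (chgX f F L).continuous (chgX f F L).isClosedMap (chgX f F L).surjective
    (fun W : irreducibleComponents ↥(BX f L) => W.1) Z (fun W => W.2.1)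
    (fun W => isClosed_of_mem_irreducibleComponents _ W.2)
    (fun x => ⟨⟨irreducibleComponent x, irreducibleComponent_mem_irreducibleComponents x⟩, mem_irreducibleComponent⟩) hZ

end ProperConnLib
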