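import Mathlib
import Groth.Prelude.Def_EGA43
import Groth.Agent.ProperConnLib.Core
import Groth.Agent.ProperConnLib.Levels
import Groth.Agent.GISpreadLib.Cons
import Groth.Agent.SecNhdLib.Main
import Groth.Agent.UOpenLib.CompleteDvr
import Groth.Agent.ProperClopenLib.HenselGeneral
import Groth.Agent.DvrDom.Scheme

/-!
# The geometric number of connected components of the fibres of a proper morphism
-/

set_option autoImplicit false
universe u

open CategoryTheory CategoryTheory.Limits AlgebraicGeometry TopologicalSpace Topology IsLocalRing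

namespace ProperConnLib

theorem card_components_le_of_surjective {α β : Type u} [TopologicalSpace α] [TopologicalSpace β] {m : α → β}
    (hm : Continuous m) (hs : Function.Surjective m) :
    ENat.card (_root_.ConnectedComponents β) ≤ ENat.card (_root_.ConnectedComponents α) :=
  ENat.card_le_card_of_injective (Function.injective_surjInv (f := hm.connectedComponentsMap) fun c => by
    obtain ⟨b, rfl⟩ := ConnectedComponents.surjective_coe c
    obtain ⟨a, rfl⟩ := hs b
    exact ⟨ConnectedComponents.mk a, rfl⟩)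

theorem card_components_congr {α β : Type u} [TopologicalSpace α] [TopologicalSpace β] (e : α ≃ₜ β) :
    ENat.card (_root_.ConnectedComponents α) = ENat.card (_root_.ConnectedComponents β) :=
  le_antisymm (card_components_le_of_surjective e.symm.continuous e.symm.surjective)
    (card_components_le_of_surjective e.continuous e.surjective)

variable {X Y T : Scheme.{u}} (f : X ⟶ Y) (h : T ⟶ Y)

/-- A fibre as a set is covered by the base change along a field-valued point. -/
theorem range_fst_point {K : Type u} [Field K] (p : Spec (CommRingCat.of K) ⟶ T) :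
    Set.range (pullback.fst (pullback.snd f h) p) = (pullback.snd f h) ⁻¹' {p (closedPoint K)} := by
  rw [Scheme.Pullback.range_fst]
  refine congrArg ((pullback.snd f h) ⁻¹' ·) ?_
  refine Set.eq_singleton_iff_unique_mem.mpr ⟨⟨_, rfl⟩, ?_⟩
  rintro _ ⟨z, rfl⟩
  exact congrArg p (Subsingleton.elim (α := PrimeSpectrum K) z _)

theorem card_components_preimage_le (t : T) :
    ENat.card (_root_.ConnectedComponents ↥((pullback.snd f h) ⁻¹' {t})) ≤ MoreMor.nGeomConnComp f (h t) := by
  let K := AlgebraicClosure (T.residueField t)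
  let p : Spec (CommRingCat.of K) ⟶ T :=
    Spec.map (CommRingCat.ofHom (algebraMap (T.residueField t) K)) ≫ T.fromSpecResidueField t
  have hp : p (closedPoint K) = t := by
    rw [Scheme.Hom.comp_apply]; exact T.fromSpecResidueField_apply t _
  let m := pullback.fst (pullback.snd f h) p
  have hr : Set.range m = (pullback.snd f h) ⁻¹' {t} :=
    (range_fst_point f h p).trans (congrArg (fun s => (pullback.snd f h) ⁻¹' {s}) hp)
  refine (card_components_le_of_surjective (m := fun z => (⟨m z, hr.le ⟨z, rfl⟩⟩ : ↥((pullback.snd f h) ⁻¹' {t})))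
    (m.continuous.subtype_mk _) fun w => ?_).trans (le_of_eq ?_)
  · obtain ⟨z, hz⟩ := hr.ge w.2
    exact ⟨z, Subtype.ext hz⟩
  · refine (GISpreadLib.sameComp_of_iso (pullbackLeftPullbackSndIso f h p)).2.trans ?_
    exact (GISpreadLib.sameComp_geomFiber f K (p ≫ h) (h t) (by rw [Scheme.Hom.comp_apply, hp])).2

theorem card_components_preimage_eq {K : Type u} [Field K] (p : Spec (CommRingCat.of K) ⟶ T) [IsPreimmersion p] :
    ENat.card (_root_.ConnectedComponents ↥((pullback.snd f h) ⁻¹' {p (closedPoint K)})) =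
      ENat.card (_root_.ConnectedComponents ↥(pullback f (p ≫ h))) := by
  let m := pullback.fst (pullback.snd f h) p
  haveI : IsPreimmersion m := MorphismProperty.pullback_fst _ _ ‹IsPreimmersion p›
  rw [← (GISpreadLib.sameComp_of_iso (pullbackLeftPullbackSndIso f h p)).2]
  exact (card_components_congr (m.isEmbedding.toHomeomorph.trans (Homeomorph.setCongr (range_fst_point f h p)))).symm

variable [IsProper f]

/-- Lower bound along a specialization. -/
theorem nGeomConnComp_le [IsLocallyNoetherian Y] (y : Y) (hopen : ∀ x : X, f x = y → EGA43.IsUnivOpenAt f x) {y' : Y}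
    (hy' : y' ⤳ y) : MoreMor.nGeomConnComp f y ≤ MoreMor.nGeomConnComp f y' := by
  rcases eq_or_ne y y' with rfl | hne
  · exact le_rfl
  obtain ⟨A, h₀, hA, hcl, hgen⟩ := DvrDomLib.exists_dvr_through_specialization (𝟙 Y) y' y hy' hne
  rw [Category.comp_id] at hgen
  haveI := hA
  let K := AlgebraicClosure (IsLocalRing.ResidueField A)
  letI : Algebra A K := ((algebraMap (IsLocalRing.ResidueField A) K).comp (IsLocalRing.residue A)).toAlgebra
  have hk : RingHom.ker (algebraMap A K) = maximalIdeal A := by
    ext a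
    show algebraMap (IsLocalRing.ResidueField A) K (IsLocalRing.residue A a) = 0 ↔ _
    rw [map_eq_zero_iff _ (algebraMap (IsLocalRing.ResidueField A) K).injective, IsLocalRing.residue_eq_zero_iff]
  obtain ⟨Λ, _, _, _, _, ψ, hcomplete, hloc, hinj, hsurj, hker⟩ := UOpenLib.exists_complete_dvr_residue K hk
  haveI := hcomplete
  haveI := hloc
  let j : Spec (CommRingCat.of Λ) ⟶ Spec (CommRingCat.of A) := Spec.map (CommRingCat.ofHom (algebraMap A Λ))
  let h := j ≫ h₀
  have hjs : j (closedPoint Λ) = closedPoint A := IsLocalRing.comap_closedPoint (algebraMap A Λ)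
  have hhs : h (closedPoint Λ) = y := by rw [Scheme.Hom.comp_apply, hjs, hcl]
  have hhη : h (genPt Λ) = y' := by
    have e : j (genPt Λ) = Spec.map (CommRingCat.ofHom A.subtype) (closedPoint (Y.residueField y')) := by
      refine PrimeSpectrum.ext ?_
      show Ideal.comap (algebraMap A Λ) ⊥ = Ideal.comap A.subtype (maximalIdeal (Y.residueField y'))
      rw [maximalIdeal_eq_bot, ← RingHom.ker_eq_comap_bot, ← RingHom.ker_eq_comap_bot,
        (RingHom.injective_iff_ker_eq_bot _).mp hinj,
        (RingHom.injective_iff_ker_eq_bot A.subtype).mp Subtype.val_injective]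
    rw [Scheme.Hom.comp_apply, e, ← Scheme.Hom.comp_apply, hgen]
    exact Y.fromSpecResidueField_apply y' _
  let b := pullback.snd f h
  haveI : IsProper b := MorphismProperty.pullback_snd _ _ ‹IsProper f›
  have h1 : MoreMor.nGeomConnComp f y = ENat.card (_root_.ConnectedComponents ↥(b ⁻¹' {closedPoint Λ})) := by
    let p : Spec (CommRingCat.of K) ⟶ Spec (CommRingCat.of Λ) := Spec.map (CommRingCat.ofHom ψ.toRingHom)
    haveI : IsClosedImmersion p := IsClosedImmersion.spec_of_surjective _ hsurj
    have hp : p (closedPoint K) = closedPoint Λ := by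
      refine PrimeSpectrum.ext ?_
      show Ideal.comap ψ.toRingHom (maximalIdeal K) = maximalIdeal Λ
      rw [maximalIdeal_eq_bot, ← RingHom.ker_eq_comap_bot]
      exact hker
    exact (((GISpreadLib.sameComp_geomFiber f K (p ≫ h) y
      ((Scheme.Hom.comp_apply p h _).trans ((congrArg h hp).trans hhs))).2).symm.trans
      (card_components_preimage_eq f h p).symm).trans
      (congrArg (fun s => ENat.card (_root_.ConnectedComponents ↥(b ⁻¹' {s}))) hp)
  rw [h1]
  refine le_trans (card_components_le_genPt b (fun w hw => ?_) fun V hV => ?_)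
    ((card_components_preimage_le f h (genPt Λ)).trans (le_of_eq (congrArg _ hhη)))
  · refine hopen (pullback.fst f h w) ?_ _ h w rfl
    rw [← Scheme.Hom.comp_apply, pullback.condition, Scheme.Hom.comp_apply]
    exact (congrArg h hw).trans hhs
  · have hz : b ⁻¹' PrimeSpectrum.zeroLocus ((maximalIdeal Λ : Ideal Λ) : Set Λ) = b ⁻¹' {closedPoint Λ} := by
      refine congrArg (fun S => b ⁻¹' S) (Set.ext fun q => ?_)
      rw [PrimeSpectrum.mem_zeroLocus, SetLike.coe_subset_coe]
      exact ⟨fun hq => PrimeSpectrum.ext ((maximalIdeal.isMaximal Λ).eq_of_le (Ideal.IsPrime.ne_top inferInstance) hq).symm,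
        fun hq => (congrArg PrimeSpectrum.asIdeal (Set.mem_singleton_iff.mp hq)).ge⟩
    have hcl' : IsClosed (b ⁻¹' {closedPoint Λ}) := hz ▸ (PrimeSpectrum.isClosed_zeroLocus _).preimage b.continuous
    obtain ⟨U, hU, hUV⟩ := ProperClopenLib.exists_clopen_lift_henselian b (maximalIdeal Λ) (Subtype.val '' V)
      (Subtype.val '' Vᶜ) (hcl'.isClosedEmbedding_subtypeVal.isClosedMap _ hV.isClosed)
      (hcl'.isClosedEmbedding_subtypeVal.isClosedMap _ hV.compl.isClosed)
      (Set.disjoint_image_of_injective Subtype.val_injective disjoint_compl_right)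
      (by rw [hz, ← Set.image_union, Set.union_compl_self, Set.image_univ, Subtype.range_coe])
    refine ⟨U, hU, ?_⟩
    ext v
    rw [hz] at hUV
    exact ⟨fun hv => Subtype.val_injective.mem_set_image.mp (hUV.le ⟨hv, v.2⟩),
      fun hv => (hUV.ge ⟨v, hv, rfl⟩).1⟩

/-- A trait centred at `y` whose generic point is a finite extension of `κ(y')`. -/
theorem exists_dvr_extension [IsLocallyNoetherian Y] {y' y : Y} (hsp : y' ⤳ y) (hne : y ≠ y') (F : Type u) [Field F]
    [Algebra (Y.residueField y') F] [Module.Finite (Y.residueField y') F] :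
    ∃ (A : ValuationSubring F) (h : Spec (CommRingCat.of A) ⟶ Y),
      IsDiscreteValuationRing A ∧ h (closedPoint A) = y ∧
        Spec.map (CommRingCat.ofHom A.subtype) ≫ h =
          Spec.map (CommRingCat.ofHom (algebraMap (Y.residueField y') F)) ≫ Y.fromSpecResidueField y' := by
  obtain ⟨U, hU, hyU⟩ := GISpreadLib.exists_affine_mem y
  have hy'U : y' ∈ U := hsp.mem_open U.isOpen hyU
  haveI : IsNoetherianRing Γ(Y, U) := IsLocallyNoetherian.component_noetherian ⟨U, hU⟩
  let ψ₀ : Γ(Y, U) ⟶ Y.residueField y' := Y.presheaf.germ U y' hy'U ≫ Y.residue y'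
  let ψ : Γ(Y, U) →+* F := (algebraMap (Y.residueField y') F).comp ψ₀.hom
  letI := ψ.toAlgebra
  haveI : Algebra.EssFiniteType Γ(Y, U) F := by
    have h1 : (Y.presheaf.germ U y' hy'U).hom.EssFiniteType := by
      let := (Y.presheaf.germ U y' hy'U).hom.toAlgebra
      have : IsLocalization.AtPrime (Y.presheaf.stalk y') (hU.primeIdealOf ⟨y', hy'U⟩).asIdeal :=
        hU.isLocalization_stalk ⟨y', hy'U⟩
      exact Algebra.EssFiniteType.of_isLocalization (R := Γ(Y, U)) (Y.presheaf.stalk y')
        (hU.primeIdealOf ⟨y', hy'U⟩).asIdeal.primeCompl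
    have h2 : (Y.residue y').hom.EssFiniteType :=
      RingHom.FiniteType.essFiniteType (RingHom.FiniteType.of_surjective _ (Y.residue_surjective y'))
    have h3 : (algebraMap (Y.residueField y') F).EssFiniteType :=
      RingHom.FiniteType.essFiniteType (RingHom.finiteType_algebraMap.mpr inferInstance)
    exact RingHom.EssFiniteType.stableUnderComposition _ _
      (RingHom.EssFiniteType.stableUnderComposition _ _ h1 h2) h3
  obtain ⟨s, hs⟩ := DvrDomLib.closure_eq_top_of_essFiniteType (A := Γ(Y, U)) (L := F)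
  let P : Ideal Γ(Y, U) := (hU.primeIdealOf ⟨y, hyU⟩).asIdeal
  have hψ : ∀ a : Γ(Y, U), ψ a = 0 ↔ y' ∉ Y.basicOpen a := by
    intro a
    rw [Y.mem_basicOpen a y' hy'U]
    show algebraMap (Y.residueField y') F (ψ₀ a) = 0 ↔ _
    rw [map_eq_zero_iff _ (algebraMap (Y.residueField y') F).injective]
    show IsLocalRing.residue (Y.presheaf.stalk y') (Y.presheaf.germ U y' hy'U a) = 0 ↔ _
    rw [IsLocalRing.residue_eq_zero_iff, IsLocalRing.mem_maximalIdeal, mem_nonunits_iff]
  have hP : ∀ a : Γ(Y, U), a ∈ P ↔ y ∉ Y.basicOpen a := by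
    intro a
    rw [Y.mem_basicOpen a y hyU]
    show a ∈ (hU.primeIdealOf ⟨y, hyU⟩).asIdeal ↔ _
    rw [hU.primeIdealOf_eq_map_closedPoint]
    exact IsLocalRing.mem_maximalIdeal _
  have hker : RingHom.ker ψ ≤ P := fun a ha =>
    (hP a).mpr fun h => (hψ a).mp ha (hsp.mem_open (Y.basicOpen a).isOpen h)
  have hne' : ∃ a ∈ P, ψ a ≠ 0 := by
    have hns : ¬ y ⤳ y' := fun h => hne (h.antisymm hsp).eq
    rw [specializes_iff_forall_open] at hns
    push Not at hns
    obtain ⟨V, hV, hxV, hy'V⟩ := hns
    obtain ⟨a, haV, hxa⟩ := hU.exists_basicOpen_le (V := ⟨V, hV⟩) ⟨y', hxV⟩ hy'U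
    exact ⟨a, (hP a).mpr fun h => hy'V (haV h), fun h => (hψ a).mp h hxa⟩
  obtain ⟨R, hR, hmem, hval⟩ := DvrDomLib.exists_dvr_dominating P hker hne' s hs
  let φ : Γ(Y, U) →+* R := ψ.codRestrict R hmem
  refine ⟨R, Spec.map (CommRingCat.ofHom φ) ≫ hU.fromSpec, hR, ?_, ?_⟩
  · refine Eq.trans ?_ (hU.fromSpec_primeIdealOf ⟨y, hyU⟩)
    show hU.fromSpec _ = _
    refine congrArg hU.fromSpec (PrimeSpectrum.ext ?_)
    ext a
    show φ a ∈ IsLocalRing.maximalIdeal R ↔ a ∈ P
    rw [← ValuationSubring.coe_mem_nonunits_iff, ValuationSubring.mem_nonunits_iff]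
    exact hval a
  · rw [← Category.assoc, ← Spec.map_comp]
    have : CommRingCat.ofHom φ ≫ CommRingCat.ofHom R.subtype =
        ψ₀ ≫ CommRingCat.ofHom (algebraMap (Y.residueField y') F) := rfl
    rw [this, Scheme.fromSpecResidueField, ← hU.fromSpecStalk_eq_fromSpecStalk hy'U, IsAffineOpen.fromSpecStalk]
    simp only [ψ₀, Spec.map_comp, Category.assoc]
    rfl

/-- Upper bound along a specialization. -/
theorem le_nGeomConnComp [IsLocallyNoetherian Y] (y : Y) (hopen : ∀ x : X, f x = y → EGA43.IsUnivOpenAt f x)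
    (hred : ∀ x : X, f x = y → FBase.IsGeomReducedAt (f.fiberToSpecResidueField (f x)) (f.asFiber x)) {y' : Y}
    (hy' : y' ⤳ y) : MoreMor.nGeomConnComp f y' ≤ MoreMor.nGeomConnComp f y := by
  rcases eq_or_ne y y' with rfl | hne
  · exact le_rfl
  let q : Spec (CommRingCat.of (Y.residueField y')) ⟶ Y := Y.fromSpecResidueField y'
  let f₀ : pullback f q ⟶ Spec (CommRingCat.of (Y.residueField y')) := pullback.snd f q
  haveI : LocallyOfFiniteType f₀ := MorphismProperty.pullback_snd _ _ inferInstance
  haveI : QuasiCompact f₀ := MorphismProperty.pullback_snd _ _ inferInstance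
  obtain ⟨F, _, hle⟩ := exists_finite_level f₀
  haveI : Module.Finite (Y.residueField y') F := ‹FiniteDimensional (Y.residueField y') F›
  obtain ⟨A, h, hA, hcl, hgen⟩ := exists_dvr_extension hy' hne F
  haveI := hA
  rw [show MoreMor.nGeomConnComp f y' =
      ENat.card (_root_.ConnectedComponents ↥(GISpreadLib.BX f₀ (AlgebraicClosure (Y.residueField y')))) from
    ((GISpreadLib.sameComp_BX_geomFiber (R := (Y.residueField y' : Type u)) f q (AlgebraicClosure (Y.residueField y')) y'
      (Y.fromSpecResidueField_apply y' _)).2).symm]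
  refine hle.trans ?_
  let p : Spec (CommRingCat.of F) ⟶ Spec (CommRingCat.of A) := Spec.map (CommRingCat.ofHom A.subtype)
  haveI : IsFractionRing A F := inferInstance
  haveI : IsPreimmersion p := IsPreimmersion.of_isLocalization (R := A) (S := F) (nonZeroDivisors A)
  have hp : p (closedPoint F) = genPt A := by
    refine PrimeSpectrum.ext ?_
    show Ideal.comap A.subtype (maximalIdeal F) = ⊥
    rw [maximalIdeal_eq_bot, ← RingHom.ker_eq_comap_bot]
    exact (RingHom.injective_iff_ker_eq_bot _).mp Subtype.val_injective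
  let b := pullback.snd f h
  haveI : IsProper b := MorphismProperty.pullback_snd _ _ ‹IsProper f›
  have hP : ENat.card (_root_.ConnectedComponents ↥(GISpreadLib.BX f₀ F)) =
      ENat.card (_root_.ConnectedComponents ↥(b ⁻¹' {genPt A})) := by
    rw [← hp, card_components_preimage_eq f h p]
    exact (GISpreadLib.sameComp_of_iso (pullbackLeftPullbackSndIso f q _ ≪≫ pullback.congrHom rfl hgen.symm)).2
  rw [hP]
  refine le_trans (card_components_genPt_le b fun w hw => ?_)
    ((card_components_preimage_le f h (closedPoint A)).trans (le_of_eq (congrArg _ hcl)))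
  have hx : f (pullback.fst f h w) = y := by
    rw [← Scheme.Hom.comp_apply, pullback.condition, Scheme.Hom.comp_apply]
    exact (congrArg h hw).trans hcl
  exact (SecNhdLib.dvrHyp_of_univOpen (fun z hz _ => hopen z (hz.trans hx)) (hred _ hx)) A h w rfl hw

/-- Level sets of a function of the geometric number of components are constructible. -/
theorem isLocallyConstructible_nGeomConnComp {X Y : Scheme.{u}} (f : X ⟶ Y) [LocallyOfFinitePresentation f]
    [QuasiCompact f] [QuasiSeparated f] (P : ℕ∞ → Prop) :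
    IsLocallyConstructible {y : Y | P (MoreMor.nGeomConnComp f y)} := by
  refine GISpreadLib.isLocallyConstructible_locus (fun {X Y} f => {y : Y | P (MoreMor.nGeomConnComp f y)})
    (fun {X Y X' Y'} f f' g' g hc => Set.ext fun y' => ?_) (fun {X Y} f _ _ y => ?_) f
  · show P (MoreMor.nGeomConnComp f' y') ↔ P (MoreMor.nGeomConnComp f (g y'))
    exact iff_of_eq (congrArg P (GISpreadLib.sameComp_geomFiber_comp f f' g' g hc y').2)
  · obtain ⟨W, hW, H⟩ := GISpreadLib.exists_nhd_sameComp f y
    exact ⟨W, hW, fun y' h h' => iff_of_eq (congrArg P (H y' h h').2)⟩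

theorem eventually_nGeomConnComp [IsLocallyNoetherian Y] (y : Y) (P : ℕ∞ → Prop)
    (h : ∀ y', y' ⤳ y → P (MoreMor.nGeomConnComp f y')) : ∃ V ∈ nhds y, ∀ z ∈ V, P (MoreMor.nGeomConnComp f z) := by
  haveI := UOpenLib.locallyOfFinitePresentation_of_isLocallyNoetherian f
  refine ⟨_, mem_interior_iff_mem_nhds.mp ((Groth.Agent.ProConsLib.mem_interior_iff_forall_specializes
    (Groth.Agent.ProConsLib.isLocallyConstructible_iff_ind_and_pro.mp
      (isLocallyConstructible_nGeomConnComp f P)).1 y).mpr h), fun z hz => hz⟩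

end ProperConnLib
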