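import Mathlib
import Groth.Prelude.Def_CAlg2
import Groth.Agent.ProperConnLib.Main
import Groth.Agent.ProperConnLib.Henselian
import Groth.Agent.UOpenLib.Normal
import Groth.Agent.UOpenLib.Unibranch

/-!
# Lower semicontinuity of the geometric number of connected components at a geometrically unibranch point
-/

set_option autoImplicit false
universe u

open CategoryTheory CategoryTheory.Limits AlgebraicGeometry TopologicalSpace Topology IsLocalRing

namespace ProperConnLib

variable {X Y T T' : Scheme.{u}} (f : X ⟶ Y)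

/-- The map between two base changes. -/
noncomputable def pm (a : T' ⟶ T) (h : T ⟶ Y) : pullback f (a ≫ h) ⟶ pullback f h :=
  pullback.lift (pullback.fst f (a ≫ h)) (pullback.snd f (a ≫ h) ≫ a)
    (by rw [Category.assoc]; exact pullback.condition)

@[reassoc (attr := simp)]
theorem pm_fst (a : T' ⟶ T) (h : T ⟶ Y) : pm f a h ≫ pullback.fst f h = pullback.fst f (a ≫ h) :=
  pullback.lift_fst _ _ _

@[reassoc (attr := simp)]
theorem pm_snd (a : T' ⟶ T) (h : T ⟶ Y) : pm f a h ≫ pullback.snd f h = pullback.snd f (a ≫ h) ≫ a :=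
  pullback.lift_snd _ _ _

theorem isPullback_pm (a : T' ⟶ T) (h : T ⟶ Y) :
    IsPullback (pm f a h) (pullback.snd f (a ≫ h)) (pullback.snd f h) a :=
  IsPullback.of_right (by rw [pm_fst]; exact IsPullback.of_hasPullback f (a ≫ h)) (pm_snd f a h)
    (IsPullback.of_hasPullback f h)

/-- An open base change lifts density of a fibre. -/
theorem mem_closure_of_universallyOpen (a : T' ⟶ T) [UniversallyOpen a] (h : T ⟶ Y) {t : T} {t' : T'}
    (huniq : ∀ s : T', a s = t → s = t') {w : ↥(pullback f (a ≫ h))}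
    (hw : pm f a h w ∈ closure ((pullback.snd f h) ⁻¹' {t})) :
    w ∈ closure ((pullback.snd f (a ≫ h)) ⁻¹' {t'}) := by
  haveI : UniversallyOpen (pm f a h) := MorphismProperty.of_isPullback (isPullback_pm f a h).flip ‹_›
  have h1 : w ∈ closure ((pm f a h) ⁻¹' ((pullback.snd f h) ⁻¹' {t})) :=
    (pm f a h).isOpenMap.preimage_closure_subset_closure_preimage hw
  refine closure_mono (fun v hv => huniq _ ?_) h1
  rw [← Scheme.Hom.comp_apply, ← pm_snd, Scheme.Hom.comp_apply]
  exact hv

/-- A preimmersive base change lifts density of a fibre in its range. -/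
theorem mem_closure_of_isPreimmersion (a : T' ⟶ T) [IsPreimmersion a] (h : T ⟶ Y) {t : T} {t' : T'}
    (ht : a t' = t) {w : ↥(pullback f (a ≫ h))}
    (hw : pm f a h w ∈ closure ((pullback.snd f h) ⁻¹' {t})) :
    w ∈ closure ((pullback.snd f (a ≫ h)) ⁻¹' {t'}) := by
  haveI : IsPreimmersion (pm f a h) := MorphismProperty.of_isPullback (isPullback_pm f a h).flip ‹_›
  rw [(pm f a h).isEmbedding.closure_eq_preimage_closure_image]
  refine closure_mono (fun v hv => ?_) hw
  obtain ⟨p, hp, hp'⟩ := Scheme.exists_preimage_of_isPullback (isPullback_pm f a h) v t'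
    ((Set.mem_singleton_iff.mp hv).trans ht.symm)
  exact ⟨p, hp', hp⟩

theorem eq_genPt_aux [IrreducibleSpace Y] {η : Y} (h : η ⤳ genericPoint Y) : η = genericPoint Y :=
  h.antisymm (genericPoint_specializes η) |>.eq

section Local

variable (y₀ : Y) (A : Type u) [CommRing A] [IsDomain A] [IsLocalRing A] (φ : Y.presheaf.stalk y₀ →+* A)
  (hint : φ.IsIntegral)

theorem comap_closedPoint_of_isIntegral {O : Type u} [CommRing O] [IsLocalRing O] (φ : O →+* A) (hint : φ.IsIntegral)
    (q : PrimeSpectrum A) : PrimeSpectrum.comap φ q = closedPoint O ↔ q = closedPoint A := by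
  letI := φ.toAlgebra
  haveI : Algebra.IsIntegral O A := ⟨hint⟩
  constructor
  · intro h
    haveI : (q.asIdeal.under O).IsMaximal := by
      rw [show q.asIdeal.under O = maximalIdeal O from congrArg PrimeSpectrum.asIdeal h]
      exact maximalIdeal.isMaximal O
    exact PrimeSpectrum.ext (eq_maximalIdeal (Ideal.isMaximal_of_isIntegral_of_isMaximal_comap q.asIdeal ‹_›))
  · rintro rfl
    exact PrimeSpectrum.ext (eq_maximalIdeal (Ideal.isMaximal_comap_of_isIntegral_of_isMaximal (R := O) (maximalIdeal A)))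

include hint in
theorem mem_closure_of_radicial
    (a : Spec (CommRingCat.of A) ⟶ Spec (Y.presheaf.stalk y₀)) (ha : a = Spec.map (CommRingCat.ofHom φ))
    (hpow : letI := Ideal.Quotient.field (maximalIdeal A)
      ∀ x : A ⧸ maximalIdeal A, ∃ n : ℕ, x ^ (ringExpChar (A ⧸ maximalIdeal A)) ^ n ∈
        ((Ideal.Quotient.mk (maximalIdeal A)).comp φ).range)
    (hgen : ∀ x : X, f x = y₀ → ∃ ξ : X, ξ ⤳ x ∧ f ξ = (a ≫ Y.fromSpecStalk y₀) (genPt A))
    (p : ↥(pullback f (a ≫ Y.fromSpecStalk y₀)))
    (hp : pullback.snd f (a ≫ Y.fromSpecStalk y₀) p = closedPoint A) :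
    p ∈ closure ((pullback.snd f (a ≫ Y.fromSpecStalk y₀)) ⁻¹' {genPt A}) := by
  letI := Ideal.Quotient.field (maximalIdeal A)
  let h0 := Y.fromSpecStalk y₀
  haveI : IsPreimmersion (pullback.fst f h0) := MorphismProperty.pullback_fst _ _ (inferInstance : IsPreimmersion h0)
  have hax : a (closedPoint A) = closedPoint (Y.presheaf.stalk y₀) :=
    ha ▸ (comap_closedPoint_of_isIntegral A φ hint (closedPoint A)).mpr rfl
  have hxy : f (pullback.fst f h0 (pm f a h0 p)) = y₀ := by
    rw [← Scheme.Hom.comp_apply, pullback.condition, Scheme.Hom.comp_apply, ← Scheme.Hom.comp_apply (pm f a h0),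
      pm_snd, Scheme.Hom.comp_apply]
    exact ((congrArg h0 ((congrArg a hp).trans hax))).trans Y.fromSpecStalk_closedPoint
  obtain ⟨ξ, hξ, hfξ⟩ := hgen _ hxy
  rw [Scheme.Hom.comp_apply] at hfξ
  obtain ⟨ξ₀, hξ₀, hξs⟩ := Scheme.Pullback.exists_preimage_pullback (f := f) (g := h0) ξ (a (genPt A)) hfξ
  have hsp : ξ₀ ⤳ pm f a h0 p := (pullback.fst f h0).isEmbedding.isInducing.specializes_iff.mp (by rw [hξ₀]; exact hξ)
  obtain ⟨ξ', hξ', hξ's⟩ := Scheme.exists_preimage_of_isPullback (isPullback_pm f a h0) ξ₀ (genPt A) hξs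
  haveI : IsIntegralHom a := ha ▸ IsIntegralHom.SpecMap_iff.mpr hint
  haveI : IsIntegralHom (pm f a h0) := MorphismProperty.of_isPullback (isPullback_pm f a h0).flip ‹_›
  obtain ⟨p', hp', hpp'⟩ : pm f a h0 p ∈ (pm f a h0) '' closure ((pullback.snd f (a ≫ h0)) ⁻¹' {genPt A}) := by
    refine closure_minimal subset_rfl ((pm f a h0).isClosedMap _ isClosed_closure) ?_
    refine closure_mono (s := {ξ₀}) (fun v hv => ?_) hsp.mem_closure
    exact ⟨ξ', subset_closure hξ's, hξ'.trans hv.symm⟩
  have hp's : pullback.snd f (a ≫ h0) p' = closedPoint A := by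
    refine (comap_closedPoint_of_isIntegral A φ hint _).mp ?_
    show (Spec.map (CommRingCat.ofHom φ)) (pullback.snd f (a ≫ h0) p') = _
    rw [← ha]
    rw [← Scheme.Hom.comp_apply, ← pm_snd, Scheme.Hom.comp_apply, hpp', ← Scheme.Hom.comp_apply, pm_snd,
      Scheme.Hom.comp_apply, hp, hax]
  let c : Spec (CommRingCat.of (A ⧸ maximalIdeal A)) ⟶ Spec (CommRingCat.of A) :=
    Spec.map (CommRingCat.ofHom (Ideal.Quotient.mk (maximalIdeal A)))
  have hc : c (closedPoint (A ⧸ maximalIdeal A)) = closedPoint A := by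
    refine PrimeSpectrum.ext ?_
    show Ideal.comap (Ideal.Quotient.mk (maximalIdeal A)) (maximalIdeal (A ⧸ maximalIdeal A)) = maximalIdeal A
    rw [maximalIdeal_eq_bot, ← RingHom.ker_eq_comap_bot, Ideal.mk_ker]
  haveI : UniversallyInjective (c ≫ a) := by
    rw [show c ≫ a = Spec.map (CommRingCat.ofHom ((Ideal.Quotient.mk (maximalIdeal A)).comp φ)) from
      ha ▸ (Spec.map_comp _ _).symm]
    exact UOpenLib.universallyInjective_of_pow_mem_range _ hpow
  haveI : UniversallyInjective (pm f c (a ≫ h0) ≫ pm f a h0) :=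
    MorphismProperty.of_isPullback ((isPullback_pm f c (a ≫ h0)).paste_horiz (isPullback_pm f a h0)).flip ‹_›
  obtain ⟨z, hz, -⟩ := Scheme.exists_preimage_of_isPullback (isPullback_pm f c (a ≫ h0)) p
    (closedPoint (A ⧸ maximalIdeal A)) (hp.trans hc.symm)
  obtain ⟨z', hz', -⟩ := Scheme.exists_preimage_of_isPullback (isPullback_pm f c (a ≫ h0)) p'
    (closedPoint (A ⧸ maximalIdeal A)) (hp's.trans hc.symm)
  have : z = z' := (pm f c (a ≫ h0) ≫ pm f a h0).injective (by
    rw [Scheme.Hom.comp_apply, Scheme.Hom.comp_apply, hz, hz', hpp'])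
  rw [← hz, this, hz']
  exact hp'

end Local

set_option maxHeartbeats 1600000 in
theorem nGeomConnComp_le_of_absClosure [IsProper f] (y₀ : Y) (A : Type u) [CommRing A] [IsDomain A] [IsLocalRing A]
    (S : Type u) [CommRing S] [IsDomain S] [IsIntegrallyClosed S] [Algebra A S] [Algebra.IsIntegral A S]
    (K : Type u) [Field K] [IsAlgClosed K] [Algebra S K] [IsFractionRing S K]
    (hAS : Function.Injective (algebraMap A S)) (φ : Y.presheaf.stalk y₀ →+* A) (hint : φ.IsIntegral)
    (hker : RingHom.ker φ = nilradical (Y.presheaf.stalk y₀))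
    (hθo : UniversallyOpen (Spec.map (CommRingCat.ofHom (algebraMap A S))))
    (hclA : ∀ p : ↥(pullback f (Spec.map (CommRingCat.ofHom φ) ≫ Y.fromSpecStalk y₀)),
      pullback.snd f (Spec.map (CommRingCat.ofHom φ) ≫ Y.fromSpecStalk y₀) p = closedPoint A →
      p ∈ closure ((pullback.snd f (Spec.map (CommRingCat.ofHom φ) ≫ Y.fromSpecStalk y₀)) ⁻¹' {genPt A}))
    {z : Y} (hz : z ⤳ y₀) : MoreMor.nGeomConnComp f y₀ ≤ MoreMor.nGeomConnComp f z := by
  let O := Y.presheaf.stalk y₀
  let a : Spec (CommRingCat.of A) ⟶ Spec O := Spec.map (CommRingCat.ofHom φ)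
  let h0 := Y.fromSpecStalk y₀
  let θ : Spec (CommRingCat.of S) ⟶ Spec (CommRingCat.of A) := Spec.map (CommRingCat.ofHom (algebraMap A S))
  haveI : UniversallyOpen θ := hθo
  obtain ⟨ζ, hζ⟩ : z ∈ Set.range h0 := by rw [Scheme.range_fromSpecStalk]; exact hz
  let ψ : O →+* S := (algebraMap A S).comp φ
  have hψ : ψ.IsIntegral := RingHom.IsIntegral.trans φ (algebraMap A S) hint (algebraMap_isIntegral_iff.mpr ‹_›)
  letI := ψ.toAlgebra
  haveI : Algebra.IsIntegral O S := ⟨hψ⟩
  obtain ⟨q', -, hq'p, hq'⟩ := Ideal.exists_ideal_over_prime_of_isIntegral (S := S) ζ.asIdeal ⊥ (by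
    show Ideal.comap ψ ⊥ ≤ _
    rw [← RingHom.ker_eq_comap_bot, RingHom.ker_comp_of_injective _ hAS, hker]
    exact nilradical_le_prime _)
  haveI := hq'p
  obtain ⟨n, hn, hqn⟩ := q'.exists_le_maximal (Ideal.IsPrime.ne_top inferInstance)
  let B := Localization.AtPrime n
  letI : Algebra B K := (IsLocalization.lift (S := B) (M := n.primeCompl) (g := algebraMap S K) fun s =>
    IsUnit.mk0 _ ((map_ne_zero_iff _ (IsFractionRing.injective S K)).mpr fun h => s.2 (h ▸ n.zero_mem))).toAlgebra
  haveI : IsScalarTower S B K := IsScalarTower.of_algebraMap_eq' (IsLocalization.lift_comp _).symm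
  haveI : IsFractionRing B K := IsFractionRing.isFractionRing_of_isDomain_of_isLocalization n.primeCompl B K
  haveI : IsIntegrallyClosed B := isIntegrallyClosed_of_isLocalization B n.primeCompl n.primeCompl_le_nonZeroDivisors
  haveI : HenselianLocalRing B := henselianLocalRing_of_isAlgClosed B K
  haveI : IsAlgClosed (ResidueField B) := isAlgClosed_residueField B K
  let θB : Spec (CommRingCat.of B) ⟶ Spec (CommRingCat.of S) := Spec.map (CommRingCat.ofHom (algebraMap S B))
  haveI : IsPreimmersion θB := IsPreimmersion.of_isLocalization n.primeCompl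
  have hθB : θB (closedPoint B) = (⟨n, hn.isPrime⟩ : PrimeSpectrum S) :=
    PrimeSpectrum.ext (Localization.AtPrime.comap_maximalIdeal (I := n))
  have hθ : θ (⟨n, hn.isPrime⟩ : PrimeSpectrum S) = closedPoint A :=
    PrimeSpectrum.ext (eq_maximalIdeal (Ideal.isMaximal_comap_of_isIntegral_of_isMaximal (R := A) n))
  have hθg : ∀ s, θ s = genPt A → s = genPt S := fun s hs =>
    PrimeSpectrum.ext (Ideal.eq_bot_of_comap_eq_bot (R := A) (congrArg PrimeSpectrum.asIdeal hs))
  have hθBg : θB (genPt B) = genPt S := PrimeSpectrum.ext (by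
    show Ideal.comap (algebraMap S B) ⊥ = ⊥
    rw [← RingHom.ker_eq_comap_bot, ← RingHom.injective_iff_ker_eq_bot]
    exact IsLocalization.injective B n.primeCompl_le_nonZeroDivisors)
  let hB := θB ≫ θ ≫ a ≫ h0
  let b := pullback.snd f hB
  haveI : IsProper b := MorphismProperty.pullback_snd _ _ ‹IsProper f›
  have hgenB : b ⁻¹' {closedPoint B} ⊆ closure (b ⁻¹' {genPt B}) := by
    intro w hw
    refine mem_closure_of_isPreimmersion f θB (θ ≫ a ≫ h0) hθBg (mem_closure_of_universallyOpen f θ (a ≫ h0) hθg (hclA _ ?_))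
    show pullback.snd f (a ≫ h0) (pm f θ (a ≫ h0) (pm f θB (θ ≫ a ≫ h0) w)) = closedPoint A
    rw [← Scheme.Hom.comp_apply, pm_snd, Scheme.Hom.comp_apply, ← Scheme.Hom.comp_apply (pm f θB (θ ≫ a ≫ h0)),
      pm_snd, Scheme.Hom.comp_apply]
    exact (congrArg (fun v => θ (θB v)) (Set.mem_singleton_iff.mp hw)).trans ((congrArg θ hθB).trans hθ)
  have hBs : hB (closedPoint B) = y₀ := by
    simp only [hB, Scheme.Hom.comp_apply]
    rw [hθB, hθ]
    exact (congrArg h0 ((comap_closedPoint_of_isIntegral A φ hint _).mpr rfl)).trans Y.fromSpecStalk_closedPoint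
  obtain ⟨q, hq⟩ : ∃ q : Spec (CommRingCat.of B), θB q = (⟨q', hq'p⟩ : PrimeSpectrum S) := by
    have hr := PrimeSpectrum.localization_comap_range B n.primeCompl
    exact hr.ge (show Disjoint (n.primeCompl : Set S) q' from Set.disjoint_left.mpr fun s hs hsq => hs (hqn hsq))
  have hBq : hB q = z := by
    simp only [hB, Scheme.Hom.comp_apply]
    rw [hq, ← hζ]
    exact congrArg h0 (PrimeSpectrum.ext hq')
  let p : Spec (CommRingCat.of (ResidueField B)) ⟶ Spec (CommRingCat.of B) :=
    Spec.map (CommRingCat.ofHom (residue B))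
  haveI : IsClosedImmersion p := IsClosedImmersion.spec_of_surjective _ residue_surjective
  have hp : p (closedPoint (ResidueField B)) = closedPoint B := IsLocalRing.comap_closedPoint (residue B)
  have h1 : MoreMor.nGeomConnComp f y₀ = ENat.card (_root_.ConnectedComponents ↥(b ⁻¹' {closedPoint B})) :=
    (((GISpreadLib.sameComp_geomFiber f (ResidueField B) (p ≫ hB) y₀
      ((Scheme.Hom.comp_apply p hB _).trans ((congrArg hB hp).trans hBs))).2).symm.trans
      (card_components_preimage_eq f hB p).symm).trans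
      (congrArg (fun s => ENat.card (_root_.ConnectedComponents ↥(b ⁻¹' {s}))) hp)
  rw [h1]
  exact (card_components_closed_le b hgenB (exists_clopen_lift_closedPoint b) q).trans
    ((card_components_preimage_le f hB q).trans (le_of_eq (congrArg _ hBq)))


set_option maxHeartbeats 1600000 in
theorem nGeomConnComp_le_of_unibranch [IrreducibleSpace Y] [IsProper f]
    (hdom : ∀ Z ∈ irreducibleComponents (X : Type u), closure (f.base '' Z) = Set.univ) (y₀ : Y)
    (hy : CAlg2.IsGeomUnibranch (Y.presheaf.stalk y₀)) {z : Y} (hz : z ⤳ y₀) :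
    MoreMor.nGeomConnComp f y₀ ≤ MoreMor.nGeomConnComp f z := by
  obtain ⟨⟨hdomain, hloc⟩, hrad⟩ := hy
  let O := Y.presheaf.stalk y₀
  haveI : IsDomain (CAlg2.red O) := hdomain
  let A := CAlg2.normRed O
  let L := FractionRing (CAlg2.red O)
  haveI : IsLocalRing A := hloc
  let φ : O →+* A := (algebraMap (CAlg2.red O) A).comp (Ideal.Quotient.mk (nilradical O))
  have hint : φ.IsIntegral := RingHom.IsIntegral.trans _ _ (RingHom.isIntegral_of_surjective _ Ideal.Quotient.mk_surjective)
    (algebraMap_isIntegral_iff.mpr inferInstance)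
  haveI : IsFractionRing A L := integralClosure.isFractionRing_of_finite_extension L L
  haveI : IsIntegrallyClosed A := integralClosure.isIntegrallyClosedOfFiniteExtension L
  let K := AlgebraicClosure L
  haveI : Algebra.IsAlgebraic A K :=
    haveI : Algebra.IsAlgebraic A L := IsLocalization.isAlgebraic L (nonZeroDivisors A)
    Algebra.IsAlgebraic.trans A L K
  let S := integralClosure A K
  have hAK : Function.Injective (algebraMap A K) := by
    rw [IsScalarTower.algebraMap_eq A L K]
    exact (algebraMap L K).injective.comp (IsFractionRing.injective A L)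
  haveI : IsFractionRing S K := integralClosure.isFractionRing_of_algebraic
    fun x hx => hAK (hx.trans (map_zero _).symm)
  haveI : IsIntegrallyClosed S := (IsIntegrallyClosed.integralClosure_eq_bot_iff K).mp integralClosure_idem
  have hAS : Function.Injective (algebraMap A S) := fun x y h => hAK (congrArg Subtype.val h)
  -- the generic point
  set η := genericPoint Y with hη
  let a : Spec (CommRingCat.of A) ⟶ Spec O := Spec.map (CommRingCat.ofHom φ)
  let h0 := Y.fromSpecStalk y₀
  have hker : RingHom.ker φ = nilradical O := by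
    rw [RingHom.ker_comp_of_injective _ (fun x y h => IsFractionRing.injective (CAlg2.red O) L (congrArg Subtype.val h)),
      Ideal.mk_ker]
  have hgenA : (a ≫ h0) (genPt A) = η := by
    rw [Scheme.Hom.comp_apply]
    obtain ⟨e, he⟩ : η ∈ Set.range h0 := by rw [Scheme.range_fromSpecStalk]; exact genericPoint_specializes y₀
    have h1 : a (genPt A) ⤳ e := (PrimeSpectrum.le_iff_specializes _ e).mp (by
      show Ideal.comap φ ⊥ ≤ e.asIdeal
      rw [← RingHom.ker_eq_comap_bot, hker]; exact nilradical_le_prime _)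
    exact ProperConnLib.eq_genPt_aux ((h1.map h0.continuous).trans (by rw [he]))
  have hgen : ∀ x : X, f x = y₀ → ∃ ξ : X, ξ ⤳ x ∧ f ξ = (a ≫ h0) (genPt A) := by
    intro x _
    obtain ⟨ξ, hξ⟩ := QuasiSober.sober (S := irreducibleComponent x) isIrreducible_irreducibleComponent
      isClosed_irreducibleComponent
    refine ⟨ξ, hξ.specializes mem_irreducibleComponent, ?_⟩
    rw [hgenA]
    refine ProperConnLib.eq_genPt_aux (specializes_iff_mem_closure.mpr ?_)
    have h1 : f '' irreducibleComponent x ⊆ closure {f ξ} := by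
      rintro _ ⟨v, hv, rfl⟩
      exact ((hξ.specializes hv).map f.continuous).mem_closure
    exact closure_minimal h1 isClosed_closure
      ((hdom _ (irreducibleComponent_mem_irreducibleComponents x)).ge (Set.mem_univ _))
  have hclA : ∀ p : ↥(pullback f (a ≫ h0)), pullback.snd f (a ≫ h0) p = closedPoint A →
      p ∈ closure ((pullback.snd f (a ≫ h0)) ⁻¹' {genPt A}) :=
    fun p hp => mem_closure_of_radicial f y₀ A φ hint a rfl (hrad (maximalIdeal A)) hgen p hp
  exact nGeomConnComp_le_of_absClosure f y₀ A S K hAS φ hint hker (UOpenLib.universallyOpen_of_isIntegral hAS) hclA hz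

end ProperConnLib
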