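import Mathlib
import Groth.Agent.ProperConnLib.Unibranch

/-!
# A strictly henselian base over a geometrically unibranch point
-/

set_option autoImplicit false
universe u

open CategoryTheory CategoryTheory.Limits AlgebraicGeometry TopologicalSpace Topology IsLocalRing

namespace ProperConnLib

variable {X Y : Scheme.{u}} (f : X ⟶ Y)

section Local

variable (y₀ : Y) (A : Type u) [CommRing A] [IsDomain A] [IsLocalRing A] (φ : Y.presheaf.stalk y₀ →+* A)
  (hint : φ.IsIntegral)

include hint in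
theorem exists_genPt_specializes_of_radicial
    (a : Spec (CommRingCat.of A) ⟶ Spec (Y.presheaf.stalk y₀)) (ha : a = Spec.map (CommRingCat.ofHom φ))
    (hpow : letI := Ideal.Quotient.field (maximalIdeal A)
      ∀ x : A ⧸ maximalIdeal A, ∃ n : ℕ, x ^ (ringExpChar (A ⧸ maximalIdeal A)) ^ n ∈
        ((Ideal.Quotient.mk (maximalIdeal A)).comp φ).range)
    (p : ↥(pullback f (a ≫ Y.fromSpecStalk y₀)))
    (hp : pullback.snd f (a ≫ Y.fromSpecStalk y₀) p = closedPoint A) (ξ : X)
    (hξ : ξ ⤳ pullback.fst f (a ≫ Y.fromSpecStalk y₀) p)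
    (hfξ : f ξ = (a ≫ Y.fromSpecStalk y₀) (genPt A)) :
    ∃ v, v ⤳ p ∧ pullback.snd f (a ≫ Y.fromSpecStalk y₀) v = genPt A ∧
      pullback.fst f (a ≫ Y.fromSpecStalk y₀) v = ξ := by
  letI := Ideal.Quotient.field (maximalIdeal A)
  let h0 := Y.fromSpecStalk y₀
  haveI : IsPreimmersion (pullback.fst f h0) := MorphismProperty.pullback_fst _ _ (inferInstance : IsPreimmersion h0)
  have hax : a (closedPoint A) = closedPoint (Y.presheaf.stalk y₀) :=
    ha ▸ (comap_closedPoint_of_isIntegral A φ hint (closedPoint A)).mpr rfl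
  have hxy : f (pullback.fst f h0 (pm f a h0 p)) = y₀ := by
    rw [← Scheme.Hom.comp_apply, pullback.condition, Scheme.Hom.comp_apply, ← Scheme.Hom.comp_apply (pm f a h0),
      pm_snd, Scheme.Hom.comp_apply]
    exact ((congrArg h0 ((congrArg a hp).trans hax))).trans Y.fromSpecStalk_closedPoint
  replace hξ : ξ ⤳ pullback.fst f h0 (pm f a h0 p) := by rwa [← Scheme.Hom.comp_apply, pm_fst]
  rw [Scheme.Hom.comp_apply] at hfξ
  obtain ⟨ξ₀, hξ₀, hξs⟩ := Scheme.Pullback.exists_preimage_pullback (f := f) (g := h0) ξ (a (genPt A)) hfξ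
  have hsp : ξ₀ ⤳ pm f a h0 p := (pullback.fst f h0).isEmbedding.isInducing.specializes_iff.mp (by rw [hξ₀]; exact hξ)
  obtain ⟨ξ', hξ', hξ's⟩ := Scheme.exists_preimage_of_isPullback (isPullback_pm f a h0) ξ₀ (genPt A) hξs
  haveI : IsIntegralHom a := ha ▸ IsIntegralHom.SpecMap_iff.mpr hint
  haveI : IsIntegralHom (pm f a h0) := MorphismProperty.of_isPullback (isPullback_pm f a h0).flip ‹_›
  obtain ⟨p', hp', hpp'⟩ : pm f a h0 p ∈ (pm f a h0) '' closure {ξ'} := by
    refine closure_minimal subset_rfl ((pm f a h0).isClosedMap _ isClosed_closure) ?_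
    refine closure_mono (s := {ξ₀}) (fun v hv => ?_) hsp.mem_closure
    exact ⟨ξ', subset_closure rfl, hξ'.trans hv.symm⟩
  have hp's : pullback.snd f (a ≫ h0) p' = closedPoint A := by
    refine (comap_closedPoint_of_isIntegral A φ hint _).mp ?_
    show (Spec.map (CommRingCat.ofHom φ)) (pullback.snd f (a ≫ h0) p') = _
    rw [← ha]
    rw [← Scheme.Hom.comp_apply, ← pm_snd, Scheme.Hom.comp_apply, hpp', ← Scheme.Hom.comp_apply, pm_snd,
      Scheme.Hom.comp_apply, hp, hax]
  let c : Spec (CommRingCat.of (A ⧸ maximalIdeal A)) ⟶ Spec (CommRingCat.of A) :=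
    Spec.map (CommRingCat.ofHom (Ideal.Quotient.mk (maximalIdeal A)))
  have hc : c (closedPoint (A ⧸ maximalIdeal A)) = closedPoint A := by
    refine PrimeSpectrum.ext ?_
    show Ideal.comap (Ideal.Quotient.mk (maximalIdeal A)) (maximalIdeal (A ⧸ maximalIdeal A)) = maximalIdeal A
    rw [maximalIdeal_eq_bot, ← RingHom.ker_eq_comap_bot, Ideal.mk_ker]
  haveI : UniversallyInjective (c ≫ a) := by
    rw [show c ≫ a = Spec.map (CommRingCat.ofHom ((Ideal.Quotient.mk (maximalIdeal A)).comp φ)) from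
      ha ▸ (Spec.map_comp _ _).symm]
    exact UOpenLib.universallyInjective_of_pow_mem_range _ hpow
  haveI : UniversallyInjective (pm f c (a ≫ h0) ≫ pm f a h0) :=
    MorphismProperty.of_isPullback ((isPullback_pm f c (a ≫ h0)).paste_horiz (isPullback_pm f a h0)).flip ‹_›
  obtain ⟨z, hz, -⟩ := Scheme.exists_preimage_of_isPullback (isPullback_pm f c (a ≫ h0)) p
    (closedPoint (A ⧸ maximalIdeal A)) (hp.trans hc.symm)
  obtain ⟨z', hz', -⟩ := Scheme.exists_preimage_of_isPullback (isPullback_pm f c (a ≫ h0)) p'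
    (closedPoint (A ⧸ maximalIdeal A)) (hp's.trans hc.symm)
  have : z = z' := (pm f c (a ≫ h0) ≫ pm f a h0).injective (by
    rw [Scheme.Hom.comp_apply, Scheme.Hom.comp_apply, hz, hz', hpp'])
  refine ⟨ξ', ?_, hξ's, ?_⟩
  · rw [← hz, this, hz']; exact specializes_iff_mem_closure.mpr hp'
  · rw [← hξ₀, ← hξ', ← Scheme.Hom.comp_apply, pm_fst]

end Local

/-- What the base change to a strictly henselian normal domain over `y₀` provides. -/
theorem exists_strict_base_aux (y₀ : Y) (A : Type u) [CommRing A] [IsDomain A] [IsLocalRing A]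
    (S : Type u) [CommRing S] [IsDomain S] [IsIntegrallyClosed S] [Algebra A S] [Algebra.IsIntegral A S]
    (K : Type u) [Field K] [IsAlgClosed K] [Algebra S K] [IsFractionRing S K]
    (hAS : Function.Injective (algebraMap A S)) (φ : Y.presheaf.stalk y₀ →+* A) (hint : φ.IsIntegral)
    (hθo : UniversallyOpen (Spec.map (CommRingCat.ofHom (algebraMap A S))))
    (hpow : letI := Ideal.Quotient.field (maximalIdeal A)
      ∀ x : A ⧸ maximalIdeal A, ∃ n : ℕ, x ^ (ringExpChar (A ⧸ maximalIdeal A)) ^ n ∈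
        ((Ideal.Quotient.mk (maximalIdeal A)).comp φ).range) :
    ∃ (B : Type u) (_ : CommRing B) (_ : IsDomain B) (_ : HenselianLocalRing B)
      (K' : Type u) (_ : Field K') (_ : Algebra B K') (_ : IsFractionRing B K')
      (hB : Spec (CommRingCat.of B) ⟶ Y),
      IsAlgClosed (ResidueField B) ∧ IsAlgClosed K' ∧ hB (closedPoint B) = y₀ ∧
      hB (genPt B) = (Spec.map (CommRingCat.ofHom φ) ≫ Y.fromSpecStalk y₀) (genPt A) ∧
      ∀ {X : Scheme.{u}} (f : X ⟶ Y) [LocallyQuasiFinite f] (w : ↥(pullback f hB)) (ξ : X),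
        pullback.snd f hB w = closedPoint B → ξ ⤳ pullback.fst f hB w → f ξ = hB (genPt B) →
        ∃ v, v ⤳ w ∧ pullback.snd f hB v = genPt B ∧ pullback.fst f hB v = ξ := by
  let O := Y.presheaf.stalk y₀
  let a : Spec (CommRingCat.of A) ⟶ Spec O := Spec.map (CommRingCat.ofHom φ)
  let h0 := Y.fromSpecStalk y₀
  let θ : Spec (CommRingCat.of S) ⟶ Spec (CommRingCat.of A) := Spec.map (CommRingCat.ofHom (algebraMap A S))
  haveI : UniversallyOpen θ := hθo
  obtain ⟨n, hn⟩ := Ideal.exists_maximal S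
  let B := Localization.AtPrime n
  letI : Algebra B K := (IsLocalization.lift (S := B) (M := n.primeCompl) (g := algebraMap S K) fun s =>
    IsUnit.mk0 _ ((map_ne_zero_iff _ (IsFractionRing.injective S K)).mpr fun h => s.2 (h ▸ n.zero_mem))).toAlgebra
  haveI : IsScalarTower S B K := IsScalarTower.of_algebraMap_eq' (IsLocalization.lift_comp _).symm
  haveI : IsFractionRing B K := IsFractionRing.isFractionRing_of_isDomain_of_isLocalization n.primeCompl B K
  haveI : IsIntegrallyClosed B := isIntegrallyClosed_of_isLocalization B n.primeCompl n.primeCompl_le_nonZeroDivisors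
  haveI : HenselianLocalRing B := henselianLocalRing_of_isAlgClosed B K
  haveI : IsAlgClosed (ResidueField B) := isAlgClosed_residueField B K
  let θB : Spec (CommRingCat.of B) ⟶ Spec (CommRingCat.of S) := Spec.map (CommRingCat.ofHom (algebraMap S B))
  haveI : IsPreimmersion θB := IsPreimmersion.of_isLocalization n.primeCompl
  have hθB : θB (closedPoint B) = (⟨n, hn.isPrime⟩ : PrimeSpectrum S) :=
    PrimeSpectrum.ext (Localization.AtPrime.comap_maximalIdeal (I := n))
  have hθ : θ (⟨n, hn.isPrime⟩ : PrimeSpectrum S) = closedPoint A :=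
    PrimeSpectrum.ext (eq_maximalIdeal (Ideal.isMaximal_comap_of_isIntegral_of_isMaximal (R := A) n))
  have hθg : ∀ s, θ s = genPt A → s = genPt S := fun s hs =>
    PrimeSpectrum.ext (Ideal.eq_bot_of_comap_eq_bot (R := A) (congrArg PrimeSpectrum.asIdeal hs))
  have hθBg : θB (genPt B) = genPt S := PrimeSpectrum.ext (by
    show Ideal.comap (algebraMap S B) ⊥ = ⊥
    rw [← RingHom.ker_eq_comap_bot, ← RingHom.injective_iff_ker_eq_bot]
    exact IsLocalization.injective B n.primeCompl_le_nonZeroDivisors)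
  have hgB : (θB ≫ θ ≫ a ≫ h0) (genPt B) = (a ≫ h0) (genPt A) := by
    rw [Scheme.Hom.comp_apply, hθBg, Scheme.Hom.comp_apply]
    exact congrArg (a ≫ h0) (PrimeSpectrum.ext (by
      show Ideal.comap (algebraMap A S) ⊥ = ⊥
      rw [← RingHom.ker_eq_comap_bot, ← RingHom.injective_iff_ker_eq_bot]; exact hAS))
  refine ⟨B, inferInstance, inferInstance, inferInstance, K, inferInstance, inferInstance, inferInstance, θB ≫ θ ≫ a ≫ h0, inferInstance,
    inferInstance, ?_, hgB, ?_⟩
  · simp only [Scheme.Hom.comp_apply]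
    rw [hθB, hθ]
    exact (congrArg h0 ((comap_closedPoint_of_isIntegral A φ hint _).mpr rfl)).trans Y.fromSpecStalk_closedPoint
  intro X f _ w ξ hw hξ hfξ
  let m0 := pm f θB (θ ≫ a ≫ h0)
  let m1 := pm f θ (a ≫ h0)
  have hp : pullback.snd f (a ≫ h0) (m1 (m0 w)) = closedPoint A := by
    show pullback.snd f (a ≫ h0) (pm f θ (a ≫ h0) (pm f θB (θ ≫ a ≫ h0) w)) = closedPoint A
    rw [← Scheme.Hom.comp_apply, pm_snd, Scheme.Hom.comp_apply, ← Scheme.Hom.comp_apply (pm f θB (θ ≫ a ≫ h0)),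
      pm_snd, Scheme.Hom.comp_apply]
    exact (congrArg (fun v => θ (θB v)) hw).trans ((congrArg θ hθB).trans hθ)
  have hξp : ξ ⤳ pullback.fst f (a ≫ h0) (m1 (m0 w)) := by
    show ξ ⤳ pullback.fst f (a ≫ h0) (pm f θ (a ≫ h0) (pm f θB (θ ≫ a ≫ h0) w))
    rwa [← Scheme.Hom.comp_apply, pm_fst, ← Scheme.Hom.comp_apply, pm_fst]
  obtain ⟨v₁, hv₁, hv₁s, hv₁f⟩ := exists_genPt_specializes_of_radicial f y₀ A φ hint a rfl hpow (m1 (m0 w)) hp ξ hξp
    (hfξ.trans hgB)
  haveI : UniversallyOpen m1 := MorphismProperty.of_isPullback (isPullback_pm f θ (a ≫ h0)).flip ‹_›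
  have hsub : m1 ⁻¹' {v₁} ⊆ (pullback.snd f (θ ≫ a ≫ h0)) ⁻¹' {genPt S} := by
    intro v hv
    refine hθg _ ?_
    rw [← Scheme.Hom.comp_apply, ← pm_snd, Scheme.Hom.comp_apply]
    exact (congrArg (pullback.snd f (a ≫ h0)) hv).trans hv₁s
  have hfin : (m1 ⁻¹' {v₁}).Finite := by
    haveI : LocallyQuasiFinite (pullback.snd f (θ ≫ a ≫ h0)) := MorphismProperty.pullback_snd _ _ inferInstance
    haveI : IsIntegralHom θ := IsIntegralHom.SpecMap_iff.mpr (algebraMap_isIntegral_iff.mpr ‹_›)
    haveI : IsIntegralHom m1 := MorphismProperty.of_isPullback (isPullback_pm f θ (a ≫ h0)).flip ‹_›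
    haveI : QuasiCompact (m1.fiberToSpecResidueField v₁) := MorphismProperty.pullback_snd _ _ inferInstance
    haveI : CompactSpace ↥(m1.fiber v₁) := QuasiCompact.compactSpace_of_compactSpace (m1.fiberToSpecResidueField v₁)
    have hc : IsCompact (m1 ⁻¹' {v₁}) := by
      rw [← Scheme.Hom.range_fiberι]; exact isCompact_range (m1.fiberι v₁).continuous
    exact hc.finite (((pullback.snd f (θ ≫ a ≫ h0)).isDiscrete_preimage_singleton _).mono hsub)
  have hcl : m0 w ∈ closure (m1 ⁻¹' {v₁}) := m1.isOpenMap.preimage_closure_subset_closure_preimage hv₁.mem_closure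
  rw [← Set.biUnion_of_singleton (m1 ⁻¹' {v₁}), hfin.closure_biUnion] at hcl
  obtain ⟨v₂, hv₂, hv₂c⟩ := Set.mem_iUnion₂.mp hcl
  haveI : IsPreimmersion m0 := MorphismProperty.of_isPullback (isPullback_pm f θB (θ ≫ a ≫ h0)).flip ‹_›
  obtain ⟨v, hv, hvs⟩ := Scheme.exists_preimage_of_isPullback (isPullback_pm f θB (θ ≫ a ≫ h0)) v₂ (genPt B)
    ((Set.mem_singleton_iff.mp (hsub hv₂)).trans hθBg.symm)
  refine ⟨v, m0.isEmbedding.isInducing.specializes_iff.mp ?_, hvs, ?_⟩
  · rw [show m0 v = v₂ from hv]; exact specializes_iff_mem_closure.mpr hv₂c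
  · rw [← pm_fst f θB (θ ≫ a ≫ h0), Scheme.Hom.comp_apply, hv, ← pm_fst f θ (a ≫ h0), Scheme.Hom.comp_apply,
      show pm f θ (a ≫ h0) v₂ = v₁ from hv₂, hv₁f]

set_option maxHeartbeats 800000 in
theorem exists_strict_base (y₀ : Y) (hy : CAlg2.IsGeomUnibranch (Y.presheaf.stalk y₀)) :
    ∃ (B : Type u) (_ : CommRing B) (_ : IsDomain B) (_ : HenselianLocalRing B)
      (K' : Type u) (_ : Field K') (_ : Algebra B K') (_ : IsFractionRing B K')
      (hB : Spec (CommRingCat.of B) ⟶ Y),
      IsAlgClosed (ResidueField B) ∧ IsAlgClosed K' ∧ hB (closedPoint B) = y₀ ∧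
      (∀ y', y' ⤳ y₀ → hB (genPt B) ⤳ y') ∧
      ∀ {X : Scheme.{u}} (f : X ⟶ Y) [LocallyQuasiFinite f] (w : ↥(pullback f hB)) (ξ : X),
        pullback.snd f hB w = closedPoint B → ξ ⤳ pullback.fst f hB w → f ξ = hB (genPt B) →
        ∃ v, v ⤳ w ∧ pullback.snd f hB v = genPt B ∧ pullback.fst f hB v = ξ := by
  obtain ⟨⟨hdomain, hloc⟩, hrad⟩ := hy
  let O := Y.presheaf.stalk y₀
  haveI : IsDomain (CAlg2.red O) := hdomain
  let A := CAlg2.normRed O
  let L := FractionRing (CAlg2.red O)
  haveI : IsLocalRing A := hloc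
  let φ : O →+* A := (algebraMap (CAlg2.red O) A).comp (Ideal.Quotient.mk (nilradical O))
  have hint : φ.IsIntegral := RingHom.IsIntegral.trans _ _ (RingHom.isIntegral_of_surjective _ Ideal.Quotient.mk_surjective)
    (algebraMap_isIntegral_iff.mpr inferInstance)
  haveI : IsFractionRing A L := integralClosure.isFractionRing_of_finite_extension L L
  haveI : IsIntegrallyClosed A := integralClosure.isIntegrallyClosedOfFiniteExtension L
  let K := AlgebraicClosure L
  haveI : Algebra.IsAlgebraic A K :=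
    haveI : Algebra.IsAlgebraic A L := IsLocalization.isAlgebraic L (nonZeroDivisors A)
    Algebra.IsAlgebraic.trans A L K
  let S := integralClosure A K
  have hAK : Function.Injective (algebraMap A K) := by
    rw [IsScalarTower.algebraMap_eq A L K]
    exact (algebraMap L K).injective.comp (IsFractionRing.injective A L)
  haveI : IsFractionRing S K := integralClosure.isFractionRing_of_algebraic
    fun x hx => hAK (hx.trans (map_zero _).symm)
  haveI : IsIntegrallyClosed S := (IsIntegrallyClosed.integralClosure_eq_bot_iff K).mp integralClosure_idem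
  have hAS : Function.Injective (algebraMap A S) := fun x y h => hAK (congrArg Subtype.val h)
  have hker : RingHom.ker φ = nilradical O := by
    rw [RingHom.ker_comp_of_injective _ (fun x y h => IsFractionRing.injective (CAlg2.red O) L (congrArg Subtype.val h)),
      Ideal.mk_ker]
  obtain ⟨B, _, _, _, K', _, _, _, hB, h1, h2, h3, h4, h5⟩ := exists_strict_base_aux y₀ A S K hAS φ hint
    (UOpenLib.universallyOpen_of_isIntegral hAS) (hrad (maximalIdeal A))
  refine ⟨B, inferInstance, inferInstance, inferInstance, K', inferInstance, inferInstance, inferInstance, hB, h1, h2, h3, fun y' hy' => ?_, h5⟩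
  obtain ⟨e, he⟩ : y' ∈ Set.range (Y.fromSpecStalk y₀) := by rw [Scheme.range_fromSpecStalk]; exact hy'
  have hsp : (Spec.map (CommRingCat.ofHom φ)) (genPt A) ⤳ e := (PrimeSpectrum.le_iff_specializes _ e).mp (by
    show Ideal.comap φ ⊥ ≤ e.asIdeal
    rw [← RingHom.ker_eq_comap_bot, hker]; exact nilradical_le_prime _)
  rw [h4, ← he, Scheme.Hom.comp_apply]
  exact hsp.map (Y.fromSpecStalk y₀).continuous

end ProperConnLib
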