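import Mathlib
import Groth.Prelude.Def_CAlg2
import Groth.Agent.ProperConnLib.StrictBase
import Groth.Agent.SubmDescLib.Sections
import Groth.Agent.GeomIntLib.Etale
import Groth.Agent.DescLib.QAff

/-!
# Étale schemes over geometrically unibranch schemes
-/

set_option autoImplicit false
universe u

open CategoryTheory CategoryTheory.Limits AlgebraicGeometry TopologicalSpace Topology IsLocalRing

namespace ProperConnLib

variable {X Y : Scheme.{u}}

theorem eq_of_etale_henselian {B : Type u} [CommRing B] [HenselianLocalRing B] [IsAlgClosed (ResidueField B)]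
    {P : Scheme.{u}} (b : P ⟶ Spec (CommRingCat.of B)) [Etale b] {w v v' : P} (hw : b w = closedPoint B)
    (hv : v ⤳ w) (hv' : v' ⤳ w) (h : b v = b v') : v = v' := by
  haveI : LocallyQuasiFinite b := DescLib.lqf_of_unramified _
  let κ : Spec (CommRingCat.of (ResidueField B)) ⟶ Spec (CommRingCat.of B) := Spec.map (CommRingCat.ofHom (residue B))
  haveI : IsClosedImmersion κ := IsClosedImmersion.spec_of_surjective _ residue_surjective
  have hwc : IsClosed ({w} : Set P) := by
    refine isClosed_of_closure_subset fun z hz => ?_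
    have hwz : w ⤳ z := specializes_iff_mem_closure.mpr hz
    have hbz : b z = closedPoint B := by
      have h1 : closedPoint B ⤳ b z := hw ▸ hwz.map b.continuous
      exact PrimeSpectrum.ext ((maximalIdeal.isMaximal B).eq_of_le (Ideal.IsPrime.ne_top inferInstance)
        ((PrimeSpectrum.le_iff_specializes (closedPoint B) (b z)).mpr h1)).symm
    exact (GeomIntLib.eq_of_specializes_of_same_image (f := b) hwz (hw.trans hbz.symm)).symm
  obtain ⟨z, hz, hzw⟩ := SubmDescLib.exists_kpoint b κ w ⟨_, (IsLocalRing.comap_closedPoint (residue B)).trans hw.symm⟩ hwc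
  obtain ⟨σ, hσ, hσz⟩ := SubmDescLib.exists_hensel_section (residue B) residue_surjective b z hz
  haveI : Etale (σ ≫ b) := by rw [hσ]; infer_instance
  haveI : Etale σ := Etale.of_comp σ b
  have hwσ : w ∈ Set.range σ := ⟨κ (closedPoint (ResidueField B)), by rw [← Scheme.Hom.comp_apply, hσz, hzw]⟩
  obtain ⟨t, ht⟩ := hv.mem_open σ.isOpenMap.isOpen_range hwσ
  obtain ⟨t', ht'⟩ := hv'.mem_open σ.isOpenMap.isOpen_range hwσ
  have e : ∀ s, b (σ s) = s := fun s => by rw [← Scheme.Hom.comp_apply, hσ]; rfl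
  rw [← ht, ← ht', ← e t, ← e t', ht, ht', h]

theorem eq_of_etale_unibranch (f : X ⟶ Y) [Etale f] {x ξ ξ' : X}
    (hy : CAlg2.IsGeomUnibranch (Y.presheaf.stalk (f x))) (hξ : ξ ⤳ x) (hξ' : ξ' ⤳ x) (h : f ξ = f ξ')
    (hgen : ∀ y, y ⤳ f ξ → y = f ξ) : ξ = ξ' := by
  haveI : LocallyQuasiFinite f := DescLib.lqf_of_unramified _
  obtain ⟨B, _, _, _, K, _, _, _, hB, hres, hK, hcl, hgen', hlift⟩ := exists_strict_base (f x) hy
  haveI := hres
  haveI : Etale (pullback.snd f hB) := MorphismProperty.pullback_snd _ _ ‹_›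
  have hη : hB (genPt B) = f ξ := hgen _ (hgen' _ (hξ.map f.continuous))
  obtain ⟨w, hwf, hw⟩ := Scheme.Pullback.exists_preimage_pullback (f := f) (g := hB) x (closedPoint B) hcl.symm
  obtain ⟨v, hv, hvb, hvf⟩ := hlift f w ξ hw (by rw [hwf]; exact hξ) hη.symm
  obtain ⟨v', hv', hv'b, hv'f⟩ := hlift f w ξ' hw (by rw [hwf]; exact hξ') (h.symm.trans hη.symm)
  rw [← hvf, ← hv'f, eq_of_etale_henselian (pullback.snd f hB) hw hv hv' (hvb.trans hv'b.symm)]

theorem components_of_etale_unibranch (f : X ⟶ Y) [Etale f] [IrreducibleSpace Y]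
    (hY : ∀ y : Y, CAlg2.IsGeomUnibranch (Y.presheaf.stalk y)) :
    (∀ x : X, ∃! Z, Z ∈ irreducibleComponents ↥X ∧ x ∈ Z) ∧
    (∀ Z ∈ irreducibleComponents ↥X, IsOpen Z ∧ ∃! x : X, x ∈ Z ∧ f.base x = genericPoint Y) := by
  haveI : LocallyQuasiFinite f := DescLib.lqf_of_unramified _
  have hgen : ∀ y, y ⤳ genericPoint Y → y = genericPoint Y := fun y h => eq_genPt_aux h
  -- generizations over the generic point
  have hex : ∀ x : X, ∃ ξ, ξ ⤳ x ∧ f ξ = genericPoint Y := fun x => Flat.generalizingMap f (genericPoint_specializes (f x))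
  have hcomp : ∀ Z ∈ irreducibleComponents ↥X, ∃ ξ, f ξ = genericPoint Y ∧ IsGenericPoint ξ Z := by
    intro Z hZ
    obtain ⟨ξ, hξ⟩ := QuasiSober.sober hZ.1 (isClosed_of_mem_irreducibleComponents Z hZ)
    obtain ⟨v, hvξ, hv⟩ := hex ξ
    have hT' : Z ⊆ closure ({v} : Set X) := by
      rw [← hξ.def]; exact closure_minimal (Set.singleton_subset_iff.mpr hvξ.mem_closure) isClosed_closure
    have hTe : Z = closure ({v} : Set X) := hT'.antisymm (hZ.2 isIrreducible_singleton.closure hT')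
    exact ⟨v, hv, hTe.symm⟩
  -- a point has only one generization over the generic point
  have huniq : ∀ x ξ ξ' : X, ξ ⤳ x → ξ' ⤳ x → f ξ = genericPoint Y → f ξ' = genericPoint Y → ξ = ξ' := by
    intro x ξ ξ' hξ hξ' h h'
    exact eq_of_etale_unibranch f (hY _) hξ hξ' (h.trans h'.symm) (fun y hy => (hgen y (h ▸ hy)).trans h.symm)
  refine ⟨fun x => ?_, fun Z hZ => ?_⟩
  · refine ⟨irreducibleComponent x, ⟨irreducibleComponent_mem_irreducibleComponents x, mem_irreducibleComponent⟩, ?_⟩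
    rintro Z ⟨hZ, hx⟩
    obtain ⟨ξ, hfξ, hξ⟩ := hcomp Z hZ
    obtain ⟨ξ', hfξ', hξ'⟩ := hcomp _ (irreducibleComponent_mem_irreducibleComponents x)
    rw [← hξ.def, ← hξ'.def, huniq x ξ ξ' (hξ.specializes hx) (hξ'.specializes mem_irreducibleComponent) hfξ hfξ']
  obtain ⟨ξ, hfξ, hξ⟩ := hcomp Z hZ
  refine ⟨isOpen_iff_mem_nhds.mpr fun x hx => ?_, ξ, ⟨hξ.mem, hfξ⟩, fun x hx => ?_⟩
  · obtain ⟨V, hV, hxV, -⟩ := exists_isAffineOpen_mem_and_subset (X := Y) (x := f x) (U := ⊤) trivial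
    obtain ⟨U, hU, hxU, hUV⟩ := exists_isAffineOpen_mem_and_subset (X := X) (x := x) (U := f ⁻¹ᵁ V) hxV
    haveI : IsAffine V.toScheme := hV
    haveI : IsAffine U.toScheme := hU
    let g := f.resLE V U hUV
    haveI : LocallyQuasiFinite (g ≫ V.ι) := by rw [f.resLE_comp_ι hUV]; infer_instance
    haveI : LocallyQuasiFinite g := LocallyQuasiFinite.of_comp g V.ι
    let S : Set X := ((U : Set X) ∩ f ⁻¹' {genericPoint Y}) \ {ξ}
    have hfin : S.Finite := by
      have hη : genericPoint Y ∈ V := (genericPoint_specializes (f x)).mem_open V.isOpen hxV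
      refine (((g.finite_preimage_singleton ⟨_, hη⟩).image U.ι).subset ?_).sdiff
      rintro u ⟨huU, hu⟩
      exact ⟨⟨u, huU⟩, V.ι.isOpenEmbedding.injective (by
        rw [← Scheme.Hom.comp_apply, f.resLE_comp_ι hUV]; exact hu), rfl⟩
    refine Filter.mem_of_superset (x := (U : Set X) ∩ (⋃ s ∈ S, closure ({s} : Set X))ᶜ)
      (Filter.inter_mem (U.isOpen.mem_nhds hxU) ((Set.Finite.isClosed_biUnion hfin fun _ _ => isClosed_closure).isOpen_compl.mem_nhds ?_)) ?_
    · intro hx'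
      obtain ⟨s, ⟨⟨_, hs⟩, hsne⟩, hsx⟩ := Set.mem_iUnion₂.mp hx'
      exact hsne (huniq x s ξ (specializes_iff_mem_closure.mpr hsx) (hξ.specializes hx) hs hfξ)
    · rintro u ⟨huU, hu⟩
      obtain ⟨v, hvu, hv⟩ := hex u
      rcases eq_or_ne v ξ with rfl | hne
      · exact hξ.def ▸ hvu.mem_closure
      · exact absurd (Set.mem_biUnion (x := v) (s := S) (t := fun s => closure ({s} : Set X)) ⟨⟨hvu.mem_open U.isOpen huU, hv⟩, hne⟩ hvu.mem_closure) hu
  · exact (GeomIntLib.eq_of_specializes_of_same_image (f := f) (hξ.specializes hx.1) (hfξ.trans hx.2.symm)).symm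

end ProperConnLib
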