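import Mathlib
import Groth.Prelude.Def_CAlg2
import Groth.Agent.ProperConnLib.StrictBase
import Groth.Agent.ProperClopenLib.SeparatedHenselian

/-!
# Disjointness of components when the geometric number of points is constant
-/

set_option autoImplicit false
universe u

open CategoryTheory CategoryTheory.Limits AlgebraicGeometry TopologicalSpace Topology IsLocalRing

namespace ProperConnLib

theorem card_components_of_isDiscrete {α : Type u} [TopologicalSpace α] {s : Set α} (hs : IsDiscrete s) :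
    ENat.card (_root_.ConnectedComponents ↥s) = ENat.card ↥s := by
  haveI : DiscreteTopology ↥s := hs.to_subtype
  refine ENat.card_congr (Equiv.ofBijective _ ⟨fun a b h => ?_, ConnectedComponents.surjective_coe⟩).symm
  have h' := ConnectedComponents.coe_eq_coe'.mp h
  rw [connectedComponent_eq_singleton] at h'
  exact Set.mem_singleton_iff.mp h'

variable {B : Type u} [CommRing B] [IsDomain B] [HenselianLocalRing B] {P : Scheme.{u}} (b : P ⟶ Spec (CommRingCat.of B))
  [IsSeparated b] [LocallyOfFiniteType b] [LocallyQuasiFinite b] [QuasiCompact b]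

/-- Over a henselian local ring the points of the closed fibre of a separated quasi-finite scheme are separated by
disjoint opens. -/
theorem exists_disjoint_opens : ∃ W : ↥(b ⁻¹' {closedPoint B}) → Set P,
    (∀ w, IsOpen (W w) ∧ w.1 ∈ W w) ∧ ∀ w w', w ≠ w' → Disjoint (W w) (W w') := by
  have hz : PrimeSpectrum.zeroLocus ((maximalIdeal B : Ideal B) : Set B) = {closedPoint B} := by
    refine Set.ext fun q => ?_
    rw [PrimeSpectrum.mem_zeroLocus, SetLike.coe_subset_coe]
    exact ⟨fun hq => PrimeSpectrum.ext ((maximalIdeal.isMaximal B).eq_of_le (Ideal.IsPrime.ne_top inferInstance) hq).symm,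
      fun hq => (congrArg PrimeSpectrum.asIdeal (Set.mem_singleton_iff.mp hq)).ge⟩
  let p : Spec (CommRingCat.of (ResidueField B)) ⟶ Spec (CommRingCat.of B) :=
    Spec.map (CommRingCat.ofHom (residue B))
  haveI : IsClosedImmersion p := IsClosedImmersion.spec_of_surjective _ residue_surjective
  have hp : Set.range p = {closedPoint B} := by
    refine Set.eq_singleton_iff_unique_mem.mpr ⟨⟨_, IsLocalRing.comap_closedPoint (residue B)⟩, ?_⟩
    rintro _ ⟨z, rfl⟩
    exact (congrArg p (Subsingleton.elim (α := PrimeSpectrum (ResidueField B)) z _)).trans (IsLocalRing.comap_closedPoint (residue B))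
  let k := pullback.fst b p
  haveI : LocallyQuasiFinite (pullback.snd b p) := MorphismProperty.pullback_snd _ _ inferInstance
  haveI : QuasiCompact (pullback.snd b p) := MorphismProperty.pullback_snd _ _ inferInstance
  haveI : IsFinite (pullback.snd b p) := IsFinite.of_locallyQuasiFinite _
  haveI : IsProper (k ≫ b) := by rw [pullback.condition]; infer_instance
  obtain ⟨U, hUc, hUp, hU⟩ := ProperClopenLib.exists_clopen_proper_lift_henselian b (maximalIdeal B) ⊤ k (by
    rw [Scheme.Pullback.range_fst, hp, hz]; simp; rfl)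
  haveI := hUp
  let bU := U.ι ≫ b
  haveI : LocallyQuasiFinite bU := inferInstanceAs (LocallyQuasiFinite (U.ι ≫ b))
  have hmem : ∀ w : ↥(b ⁻¹' {closedPoint B}), w.1 ∈ U :=
    fun w => (hU w.1 (by rw [hz]; exact w.2)).mpr trivial
  let u : ↥(b ⁻¹' {closedPoint B}) → ↥(bU ⁻¹' {closedPoint B}) := fun w => ⟨⟨w.1, hmem w⟩, w.2⟩
  haveI : DiscreteTopology ↥(bU ⁻¹' {closedPoint B}) := (bU.isDiscrete_preimage_singleton _).to_subtype
  choose V hV hVu using fun w => exists_clopen_lift_closedPoint bU {u w} (isClopen_discrete _)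
  refine ⟨fun w => U.ι '' V w, fun w => ⟨?_, ?_⟩, fun w w' hne => ?_⟩
  · exact U.ι.isOpenEmbedding.isOpenMap _ (hV w).isOpen
  · exact ⟨(u w).1, (Set.ext_iff.mp (hVu w) (u w)).mpr rfl, rfl⟩
  · refine Set.disjoint_image_of_injective U.ι.isOpenEmbedding.injective ?_
    rw [Set.disjoint_iff_inter_eq_empty]
    by_contra hne'
    obtain ⟨z, hz'⟩ := Set.nonempty_iff_ne_empty.mpr hne'
    have h1 : closedPoint B ∈ bU '' (V w ∩ V w') :=
      (IsLocalRing.specializes_closedPoint (bU z : PrimeSpectrum B)).mem_closed (bU.isClosedMap _ ((hV w).isClosed.inter (hV w').isClosed)) ⟨z, hz', rfl⟩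
    obtain ⟨v, ⟨hv, hv'⟩, hvb⟩ := h1
    have e := (Set.ext_iff.mp (hVu w) ⟨v, hvb⟩).mp hv
    have e' := (Set.ext_iff.mp (hVu w') ⟨v, hvb⟩).mp hv'
    have : u w = u w' := e.symm.trans e'
    exact hne (Subtype.ext (congrArg (fun t : ↥(bU ⁻¹' {closedPoint B}) => (t.1.1 : P)) this))

end ProperConnLib

namespace ProperConnLib

theorem irreducibleComponents_disjoint {X Y : Scheme.{u}} [IsLocallyNoetherian Y]
    (hY : ∀ y : Y, CAlg2.IsGeomUnibranch (Y.presheaf.stalk y)) (f : X ⟶ Y)
    [IsSeparated f] [LocallyQuasiFinite f] [LocallyOfFiniteType f] [QuasiCompact f] [UniversallyOpen f]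
    (hn : IsLocallyConstant (fun z : Y => MoreMor.nGeomConnComp f z)) :
    ∀ Z ∈ irreducibleComponents (X : Type u), ∀ Z' ∈ irreducibleComponents (X : Type u), Z ≠ Z' → Disjoint Z Z' := by
  intro Z hZ Z' hZ' hne
  rw [Set.disjoint_left]
  intro x hx hx'
  obtain ⟨B, _, _, _, K, _, _, _, hB, hres, hK, hcl, hgen, hlift⟩ := exists_strict_base (f x) (hY (f x))
  haveI := hres
  haveI := hK
  let b := pullback.snd f hB
  haveI : LocallyQuasiFinite b := MorphismProperty.pullback_snd _ _ inferInstance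
  haveI : QuasiCompact b := MorphismProperty.pullback_snd _ _ inferInstance
  haveI : IsSeparated b := MorphismProperty.pullback_snd _ _ inferInstance
  haveI : LocallyOfFiniteType b := MorphismProperty.pullback_snd _ _ inferInstance
  -- every generization maximal in `X` lies over the generic point
  have hmax : ∀ (T : Set X), T ∈ irreducibleComponents (X : Type u) → ∀ x₁ ∈ T, f x₁ ⤳ f x →
      ∃ ξ, IsGenericPoint ξ T ∧ ξ ⤳ x₁ ∧ f ξ = hB (genPt B) := by
    intro T hT x₁ hx₁ hx₁s
    obtain ⟨ξ, hξ⟩ := QuasiSober.sober hT.1 (isClosed_of_mem_irreducibleComponents T hT)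
    refine ⟨ξ, hξ, hξ.specializes hx₁, ?_⟩
    have hsp : hB (genPt B) ⤳ f ξ := hgen _ (((hξ.specializes hx₁).map f.continuous).trans hx₁s)
    have h1 : ξ ∈ closure (f ⁻¹' {hB (genPt B)}) :=
      f.isOpenMap.preimage_closure_subset_closure_preimage hsp.mem_closure
    rw [← Set.biUnion_of_singleton (f ⁻¹' {hB (genPt B)}), (f.finite_preimage_singleton _).closure_biUnion] at h1
    obtain ⟨v, hv, hvc⟩ := Set.mem_iUnion₂.mp h1
    have hvξ : v ⤳ ξ := specializes_iff_mem_closure.mpr hvc
    have hT' : T ⊆ closure ({v} : Set X) := by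
      rw [← hξ.def]; exact closure_minimal (Set.singleton_subset_iff.mpr hvξ.mem_closure) isClosed_closure
    have hTe : T = closure ({v} : Set X) := hT'.antisymm (hT.2 isIrreducible_singleton.closure hT')
    have : ξ = v := hξ.eq (show IsGenericPoint v T from hTe.symm)
    rw [this]; exact hv
  obtain ⟨ξ, hξ, hξx, hfξ⟩ := hmax Z hZ x hx specializes_rfl
  obtain ⟨ξ', hξ', hξ'x, hfξ'⟩ := hmax Z' hZ' x hx' specializes_rfl
  have hne' : ξ ≠ ξ' := fun e => hne (hξ.def.symm.trans ((congrArg (fun t : X => closure ({t} : Set X)) e).trans hξ'.def))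
  obtain ⟨w₀, hw₀f, hw₀⟩ := Scheme.Pullback.exists_preimage_pullback (f := f) (g := hB) x (closedPoint B) hcl.symm
  obtain ⟨v, hv, hvb, hvf⟩ := hlift f w₀ ξ hw₀ (by rw [hw₀f]; exact hξx) hfξ
  obtain ⟨v', hv', hv'b, hv'f⟩ := hlift f w₀ ξ' hw₀ (by rw [hw₀f]; exact hξ'x) hfξ'
  have hex : ∀ w : ↥(b ⁻¹' {closedPoint B}), ∃ r : ↥(b ⁻¹' {genPt B}), r.1 ⤳ w.1 := by
    intro w
    have h1 : f (pullback.fst f hB w.1) = f x := by
      rw [← Scheme.Hom.comp_apply, pullback.condition, Scheme.Hom.comp_apply]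
      exact (congrArg hB w.2).trans hcl
    obtain ⟨ξ₁, -, hξ₁, hfξ₁⟩ := hmax _ (irreducibleComponent_mem_irreducibleComponents (pullback.fst f hB w.1)) _
      mem_irreducibleComponent (by rw [h1])
    obtain ⟨r, hr, hrb, -⟩ := hlift f w.1 ξ₁ w.2 hξ₁ hfξ₁
    exact ⟨⟨r, hrb⟩, hr⟩
  choose r hr using hex
  classical
  let w₀' : ↥(b ⁻¹' {closedPoint B}) := ⟨w₀, hw₀⟩
  -- a second point over `w₀`
  obtain ⟨s, hs, hsne⟩ : ∃ s : ↥(b ⁻¹' {genPt B}), s.1 ⤳ w₀ ∧ s ≠ r w₀' := by
    by_cases h : (⟨v, hvb⟩ : ↥(b ⁻¹' {genPt B})) = r w₀'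
    · refine ⟨⟨v', hv'b⟩, hv', fun e => hne' ?_⟩
      rw [← hvf, ← hv'f]
      exact congrArg (fun t : ↥(b ⁻¹' {genPt B}) => pullback.fst f hB t.1) (h.trans e.symm)
    · exact ⟨_, hv, h⟩
  obtain ⟨W, hW, hWd⟩ := exists_disjoint_opens b
  have hsep : ∀ (a : ↥(pullback f hB)) (w w' : ↥(b ⁻¹' {closedPoint B})), a ⤳ w.1 → a ⤳ w'.1 → w = w' :=
    fun a w w' h h' => by
      by_contra hne''
      exact Set.disjoint_left.mp (hWd w w' hne'') (h.mem_open (hW w).1 (hW w).2) (h'.mem_open (hW w').1 (hW w').2)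
  have hsr : ∀ w, r w ≠ s := fun w e => hsne (e ▸ congrArg r (hsep s.1 w w₀' (e ▸ hr w) hs))
  haveI : Finite ↥(b ⁻¹' {closedPoint B}) := (b.finite_preimage_singleton _).to_subtype
  haveI : Finite ↥(b ⁻¹' {genPt B}) := (b.finite_preimage_singleton _).to_subtype
  have hrinj : Function.Injective r := fun w w' e => hsep _ w w' (hr w) (e ▸ hr w')
  let F : Option ↥(b ⁻¹' {closedPoint B}) → ↥(b ⁻¹' {genPt B}) := fun o => o.elim s r
  have hF : Function.Injective F := by
    rintro (_ | w) (_ | w') h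
    · rfl
    · exact absurd h.symm (hsr w')
    · exact absurd h (hsr w)
    · exact congrArg some (hrinj h)
  -- both numbers are geometric numbers of the fibres of `f`
  let p : Spec (CommRingCat.of (ResidueField B)) ⟶ Spec (CommRingCat.of B) :=
    Spec.map (CommRingCat.ofHom (residue B))
  haveI : IsClosedImmersion p := IsClosedImmersion.spec_of_surjective _ residue_surjective
  let q : Spec (CommRingCat.of K) ⟶ Spec (CommRingCat.of B) := Spec.map (CommRingCat.ofHom (algebraMap B K))
  haveI : IsPreimmersion q := IsPreimmersion.of_isLocalization (nonZeroDivisors B)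
  have hp : p (closedPoint (ResidueField B)) = closedPoint B := IsLocalRing.comap_closedPoint (residue B)
  have hq : q (closedPoint K) = genPt B := PrimeSpectrum.ext (by
    show Ideal.comap (algebraMap B K) (maximalIdeal K) = ⊥
    rw [maximalIdeal_eq_bot, ← RingHom.ker_eq_comap_bot, ← RingHom.injective_iff_ker_eq_bot]
    exact IsFractionRing.injective B K)
  have h1 : MoreMor.nGeomConnComp f (f x) = ENat.card ↥(b ⁻¹' {closedPoint B}) :=
    ((((GISpreadLib.sameComp_geomFiber f (ResidueField B) (p ≫ hB) (f x)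
      ((Scheme.Hom.comp_apply p hB _).trans ((congrArg hB hp).trans hcl))).2).symm.trans
      (card_components_preimage_eq f hB p).symm).trans
      (congrArg (fun s => ENat.card (_root_.ConnectedComponents ↥(b ⁻¹' {s}))) hp)).trans
      (card_components_of_isDiscrete (b.isDiscrete_preimage_singleton _))
  have h2 : MoreMor.nGeomConnComp f (hB (genPt B)) = ENat.card ↥(b ⁻¹' {genPt B}) :=
    ((((GISpreadLib.sameComp_geomFiber f K (q ≫ hB) (hB (genPt B))
      ((Scheme.Hom.comp_apply q hB _).trans (congrArg hB hq))).2).symm.trans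
      (card_components_preimage_eq f hB q).symm).trans
      (congrArg (fun s => ENat.card (_root_.ConnectedComponents ↥(b ⁻¹' {s}))) hq)).trans
      (card_components_of_isDiscrete (b.isDiscrete_preimage_singleton _))
  have h3 : MoreMor.nGeomConnComp f (hB (genPt B)) = MoreMor.nGeomConnComp f (f x) :=
    (hgen (f x) specializes_rfl).mem_open (hn.isOpen_fiber _) rfl
  have h4 := Nat.card_le_card_of_injective F hF
  rw [Finite.card_option] at h4
  rw [h1, h2, ENat.card_eq_coe_natCard, ENat.card_eq_coe_natCard, ENat.coe_inj] at h3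
  omega

end ProperConnLib
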